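import Mathlib
import Cfsg.Agent.Lib.PGroup.Frattini

/-!
# Two-groups with a small fourth centre

A 2-group of order at least `2^14` whose fourth centre has order 16, such that the centraliser `W` of
the third centre has small Frattini subgroup lying in all subgroups of index at most 16: then
`W' = Φ(W)` is the third centre, it is elementary of order 8, `W` has order `2^11` and `P` order `2^14`.
-/

set_option autoImplicit false

namespace CfsgLib.RuW

open Subgroup
open scoped commutatorElement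

section Tools

variable {X : Type*} [Group X]

/-- Squares control commutators. -/
theorem comm_mem_of_sq {Y S : Subgroup X} (h : ∀ y ∈ Y, y * y ∈ S) {a b : X} (ha : a ∈ Y) (hb : b ∈ Y) :
    a * b * a⁻¹ * b⁻¹ ∈ S := by
  have h1 := h (a * b) (mul_mem ha hb)
  have h2 := h (b⁻¹ * a⁻¹ * b) (mul_mem (mul_mem (inv_mem hb) (inv_mem ha)) hb)
  have h3 := h b⁻¹ (inv_mem hb)
  have e : a * b * a⁻¹ * b⁻¹ =
      a * b * (a * b) * (b⁻¹ * a⁻¹ * b * (b⁻¹ * a⁻¹ * b)) * (b⁻¹ * b⁻¹) := by group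
  rw [e]
  exact mul_mem (mul_mem h1 h2) h3

/-- A subgroup of index two avoiding a given element. -/
theorem exists_hyperplane [Finite X] {Y S : Subgroup X} (hSY : S ≤ Y) (h : ∀ y ∈ Y, y * y ∈ S)
    {z : X} (hz : z ∈ Y) (hzS : z ∉ S) :
    ∃ M : Subgroup X, S ≤ M ∧ M ≤ Y ∧ z ∉ M ∧ Nat.card Y = 2 * Nat.card M ∧
      ∀ y ∈ Y, y ∉ M → z⁻¹ * y ∈ M := by
  classical
  obtain ⟨M, hSM, ⟨⟨hMY, hzM⟩, hmax⟩⟩ :=
    Finite.exists_le_maximal (p := fun M : Subgroup X => M ≤ Y ∧ z ∉ M) (a := S) ⟨hSY, hzS⟩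
  have hnorm : ∀ y ∈ Y, ∀ m ∈ M, y * m * y⁻¹ ∈ M := fun y hy m hm => by
    have := mul_mem (hSM (comm_mem_of_sq h hy (hMY hm))) hm
    rwa [show y * m * y⁻¹ * m⁻¹ * m = y * m * y⁻¹ by group] at this
  have hcl : ∀ y ∈ Y, y ∉ M → z⁻¹ * y ∈ M := by
    intro y hy hyM
    let B : Subgroup X :=
      { carrier := {n | n ∈ M ∨ y⁻¹ * n ∈ M}
        one_mem' := Or.inl (one_mem M)
        mul_mem' := by
          rintro a b (ha | ha) (hb | hb)
          · exact Or.inl (mul_mem ha hb)
          · refine Or.inr ?_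
            have h1 := mul_mem (hnorm y⁻¹ (inv_mem hy) a ha) hb
            rwa [show y⁻¹ * a * y⁻¹⁻¹ * (y⁻¹ * b) = y⁻¹ * (a * b) by group] at h1
          · refine Or.inr ?_
            have := mul_mem ha hb
            rwa [mul_assoc] at this
          · refine Or.inl ?_
            have h1 := mul_mem (mul_mem (hnorm y hy _ ha) (hSM (h y hy))) hb
            rwa [show y * (y⁻¹ * a) * y⁻¹ * (y * y) * (y⁻¹ * b) = a * b by group] at h1
        inv_mem' := by
          rintro a (ha | ha)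
          · exact Or.inl (inv_mem ha)
          · refine Or.inr ?_
            have h1 := mul_mem (inv_mem (hSM (h y hy))) (hnorm y hy _ (inv_mem ha))
            rwa [show (y * y)⁻¹ * (y * (y⁻¹ * a)⁻¹ * y⁻¹) = y⁻¹ * a⁻¹ by group] at h1 }
    have hMB : M ≤ B := fun m hm => Or.inl hm
    have hBY : B ≤ Y := fun n hn => by
      rcases hn with hn | hn
      · exact hMY hn
      · simpa using mul_mem hy (hMY hn)
    have hzB : z ∈ B := by
      by_contra hzB
      exact hyM (hmax (y := B) ⟨hBY, hzB⟩ hMB (Or.inr (by simp)))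
    rcases hzB with hzB | hzB
    · exact (hzM hzB).elim
    · have := inv_mem hzB
      rwa [mul_inv_rev, inv_inv] at this
  refine ⟨M, hSM, hMY, hzM, ?_, hcl⟩
  have hidx : (M.subgroupOf Y).index = 2 := by
    refine index_eq_two_iff.2 ⟨⟨z⁻¹, inv_mem hz⟩, fun b => ?_⟩
    by_cases hb : (b : X) ∈ M
    · refine Or.inr ⟨hb, fun h' => hzM ?_⟩
      exact inv_mem_iff.1 ((mul_mem_cancel_left hb).1 h')
    · refine Or.inl ⟨?_, hb⟩
      change (b : X) * z⁻¹ ∈ M
      have h1 := hnorm z hz _ (hcl _ b.2 hb)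
      rwa [show z * (z⁻¹ * (b : X)) * z⁻¹ = (b : X) * z⁻¹ by group] at h1
  have h1 := (M.subgroupOf Y).card_mul_index
  rw [hidx, Nat.card_congr (subgroupOfEquivOfLe hMY).toEquiv] at h1
  omega

/-- An element moved only within `a S` has centraliser of index at most `|S|`. -/
theorem index_centralizer_le [Finite X] (a : X) (S : Subgroup X) (h : ∀ t : X, a⁻¹ * (t * a * t⁻¹) ∈ S) :
    (centralizer ({a} : Set X)).index ≤ Nat.card S := by
  rw [index_eq_card]
  refine Nat.card_le_card_of_injective (fun q => ⟨a⁻¹ * (q.out * a * q.out⁻¹), h q.out⟩) fun p q hpq => ?_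
  have e : p.out * a * p.out⁻¹ = q.out * a * q.out⁻¹ := mul_left_cancel (Subtype.ext_iff.1 hpq)
  rw [← QuotientGroup.out_eq' p, ← QuotientGroup.out_eq' q]
  refine QuotientGroup.eq.2 (mem_centralizer_singleton_iff.2 ?_)
  calc p.out⁻¹ * q.out * a = p.out⁻¹ * (q.out * a * q.out⁻¹) * q.out := by group
    _ = p.out⁻¹ * (p.out * a * p.out⁻¹) * q.out := by rw [e]
    _ = a * (p.out⁻¹ * q.out) := by group

/-- A subgroup strictly between `A` and an overgroup of twice its order is the overgroup. -/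
theorem le_of_sandwich [Finite X] {A B C : Subgroup X} (hAB : A ≤ B) (hAC : A ≤ C)
    (hC : Nat.card C = 2 * Nat.card A) {x : X} (hxB : x ∈ B) (hxC : x ∈ C) (hxA : x ∉ A) : C ≤ B := by
  obtain ⟨c, hc⟩ := Subgroup.card_dvd_of_le (le_inf hAB hAC)
  have hd := Subgroup.card_dvd_of_le (inf_le_right : B ⊓ C ≤ C)
  rw [hC, hc, mul_comm 2] at hd
  have hc1 : c ≠ 1 := fun e => hxA (by
    rw [Subgroup.eq_of_le_of_card_ge (le_inf hAB hAC) (by rw [hc, e, mul_one])]
    exact ⟨hxB, hxC⟩)
  have hc2 : c = 2 :=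
    ((Nat.dvd_prime Nat.prime_two).1 (Nat.dvd_of_mul_dvd_mul_left Nat.card_pos hd)).resolve_left hc1
  have h := Subgroup.eq_of_le_of_card_ge (inf_le_right : B ⊓ C ≤ C) (by rw [hc, hC, hc2, mul_comm])
  exact inf_eq_right.1 h

end Tools

section Shape

variable {P : Type*} [Group P] [Finite P]

local notation "ζ" => Subgroup.upperCentralSeries P

theorem exists_mem_succ (hn : Group.IsNilpotent P) {K : Subgroup P} [hK : K.Normal] {i : ℕ}
    (h : ¬ K ≤ ζ i) : ∃ x ∈ K, x ∈ ζ (i + 1) ∧ x ∉ ζ i := by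
  obtain ⟨n, hn⟩ := hn.nilpotent'
  have key : ∀ k, (∀ x ∈ K, x ∈ ζ k → x ∈ ζ i) ∨ ∃ x ∈ K, x ∈ ζ (i + 1) ∧ x ∉ ζ i := by
    intro k
    induction k with
    | zero =>
      refine Or.inl fun x _ hx => ?_
      rw [Subgroup.upperCentralSeries_zero, mem_bot] at hx
      rw [hx]
      exact one_mem _
    | succ k ih =>
      rcases ih with ih | ih
      · by_cases h' : ∀ x ∈ K, x ∈ ζ (k + 1) → x ∈ ζ i
        · exact Or.inl h'
        · push Not at h'
          obtain ⟨x, hxK, hxk, hxi⟩ := h'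
          refine Or.inr ⟨x, hxK, Subgroup.mem_upperCentralSeries_succ_iff.2 fun y => ih _ ?_
            (Subgroup.mem_upperCentralSeries_succ_iff.1 hxk y), hxi⟩
          show x * y * x⁻¹ * y⁻¹ ∈ K
          rw [show x * y * x⁻¹ * y⁻¹ = x * (y * x⁻¹ * y⁻¹) by group]
          exact mul_mem hxK (hK.conj_mem _ (inv_mem hxK) y)
      · exact Or.inr ih
  rcases key n with k | k
  · exact absurd (fun x hx => k x hx (by rw [hn]; trivial)) h
  · exact k

variable (hP : IsPGroup 2 P) (h4 : Nat.card ↥(Subgroup.upperCentralSeries P 4) = 16) (hbig : 2 ^ 14 ≤ Nat.card P)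
include hP h4 hbig

theorem card_step {i : ℕ} (hi : i < 4) : Nat.card (ζ (i + 1)) = 2 * Nat.card (ζ i) ∧ Nat.card (ζ i) = 2 ^ i := by
  haveI := Fact.mk Nat.prime_two
  have hn := hP.isNilpotent
  have hlt : ∀ j, j ≤ 3 → 2 * Nat.card (ζ j) ≤ Nat.card (ζ (j + 1)) := by
    intro j hj
    have hne : ¬ (⊤ : Subgroup P) ≤ ζ j := fun h => by
      have h1 : Nat.card (ζ j) ≤ Nat.card (ζ 4) :=
        Subgroup.card_le_of_le (Subgroup.upperCentralSeries_mono P (by omega))
      rw [top_le_iff.1 h, card_top, h4] at h1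
      omega
    obtain ⟨x, -, hx, hx'⟩ := exists_mem_succ hn hne
    obtain ⟨c, hc⟩ := Subgroup.card_dvd_of_le (Subgroup.upperCentralSeries_mono P (Nat.le_succ j) : ζ j ≤ ζ (j + 1))
    have hc1 : c ≠ 1 := fun h => hx' (by
      rw [Subgroup.eq_of_le_of_card_ge (Subgroup.upperCentralSeries_mono P (Nat.le_succ j) : ζ j ≤ ζ (j + 1))
        (by rw [hc, h, mul_one])]
      exact hx)
    have hc0 : c ≠ 0 := fun h => Nat.card_pos.ne' (hc.trans (by rw [h, mul_zero]))
    rw [hc, mul_comm 2]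
    exact Nat.mul_le_mul_left _ (by omega)
  have h0 : Nat.card (ζ 0) = 1 := by rw [Subgroup.upperCentralSeries_zero]; exact card_bot
  have a0 := hlt 0 (by omega)
  have a1 := hlt 1 (by omega)
  have a2 := hlt 2 (by omega)
  have a3 := hlt 3 (by omega)
  interval_cases i <;> constructor <;> norm_num at * <;> omega

theorem card_zeta {i : ℕ} (hi : i ≤ 4) : Nat.card (ζ i) = 2 ^ i := by
  rcases Nat.lt_or_ge i 4 with h | h
  · exact (card_step hP h4 hbig h).2
  · obtain rfl : i = 4 := by omega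
    exact h4

theorem normal_cases {K : Subgroup P} [K.Normal] {i : ℕ} (hi : i ≤ 4) :
    ζ i ≤ K ∨ ∃ j < i, K = ζ j := by
  haveI := Fact.mk Nat.prime_two
  induction i with
  | zero => exact Or.inl (by rw [Subgroup.upperCentralSeries_zero]; exact bot_le)
  | succ i ih =>
    rcases ih (by omega) with h | ⟨j, hj, h⟩
    · by_cases hK : K ≤ ζ i
      · exact Or.inr ⟨i, by omega, le_antisymm hK h⟩
      · obtain ⟨x, hxK, hx, hx'⟩ := exists_mem_succ hP.isNilpotent hK
        refine Or.inl ?_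
        exact le_of_sandwich h (Subgroup.upperCentralSeries_mono P (Nat.le_succ i))
          (card_step hP h4 hbig (by omega : i < 4)).1 hxK hx hx'
    · exact Or.inr ⟨j, by omega, h⟩

theorem exists_gap {i : ℕ} (hi : i < 4) : ∃ x ∈ ζ (i + 1), x ∉ ζ i := by
  by_contra! h
  have h1 := Subgroup.card_le_of_le (K := ζ i) (H := ζ (i + 1)) h
  have h2 := card_step hP h4 hbig hi
  have h3 : 0 < Nat.card (ζ i) := Nat.card_pos
  omega

/-- The data produced from the hypotheses. -/
theorem shape (W : Subgroup P) (hW : W = centralizer ((ζ 3 : Subgroup P) : Set P))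
    (hc : Nat.card ↥(frattini ↥W) ≤ 8) (hd : ∀ U : Subgroup ↥W, U.index ≤ 16 → frattini ↥W ≤ U) :
    W.Normal ∧ Nat.card P = 2 ^ 14 ∧ Nat.card W = 2 ^ 11 ∧ ζ 3 ≤ W ∧
    (commutator ↥W).map W.subtype = ζ 3 ∧
    (∀ w ∈ W, w * w ∈ ζ 3) ∧ (∀ z ∈ ζ 3, z * z = 1) ∧
    (∀ U : Subgroup P, U ≤ W → 2 ^ 7 ≤ Nat.card U → ζ 3 ≤ U) ∧
    ∀ v ∈ W, (∀ t : P, t * v * t⁻¹ * v⁻¹ ∈ ζ 3) → v ∈ ζ 4 := by
  haveI := Fact.mk Nat.prime_two
  have hfix : ∀ (j : ℕ) (v : P), (∀ t : P, t * v * t⁻¹ * v⁻¹ ∈ ζ j) → v ∈ ζ (j + 1) := fun j v hv =>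
    Subgroup.mem_upperCentralSeries_succ_iff.2 fun y => by
      have := inv_mem (hv y)
      rwa [mul_inv_rev, mul_inv_rev, mul_inv_rev, inv_inv, inv_inv,
        show v * (y * (v⁻¹ * y⁻¹)) = v * y * v⁻¹ * y⁻¹ by group] at this
  have hWn : W.Normal := by
    rw [hW]
    infer_instance
  -- the index of `W`
  obtain ⟨a, ha, ha'⟩ := exists_gap hP h4 hbig (by norm_num : 1 < 4)
  obtain ⟨b, hb, hb'⟩ := exists_gap hP h4 hbig (by norm_num : 2 < 4)
  have hidx : W.index ≤ 8 := by
    have hle : centralizer ({a} : Set P) ⊓ centralizer ({b} : Set P) ≤ W := by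
      rintro t ⟨h1, h2⟩
      rw [hW, mem_centralizer_iff]
      intro x hx
      have hC : ζ 3 ≤ centralizer ({t} : Set P) := by
        have hsub : ζ 1 ≤ centralizer ({t} : Set P) ⊓ ζ 3 := le_inf
          (fun y hy => mem_centralizer_singleton_iff.2 (by
            have h := Subgroup.mem_upperCentralSeries_succ_iff.1 hy t
            rw [Subgroup.upperCentralSeries_zero, mem_bot, commutatorElement_def, mul_inv_eq_one] at h
            exact mul_inv_eq_iff_eq_mul.1 h))
          (Subgroup.upperCentralSeries_mono P (by omega))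
        have hain : a ∈ centralizer ({t} : Set P) ⊓ ζ 3 :=
          ⟨mem_centralizer_singleton_iff.2 (mem_centralizer_singleton_iff.1 h1).symm,
            Subgroup.upperCentralSeries_mono P (by omega : 2 ≤ 3) ha⟩
        have hbin : b ∈ centralizer ({t} : Set P) ⊓ ζ 3 :=
          ⟨mem_centralizer_singleton_iff.2 (mem_centralizer_singleton_iff.1 h2).symm, hb⟩
        have h2le : ζ 2 ≤ centralizer ({t} : Set P) ⊓ ζ 3 :=
          le_of_sandwich hsub (Subgroup.upperCentralSeries_mono P (by omega))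
            (card_step hP h4 hbig (by omega : 1 < 4)).1 hain ha ha'
        exact le_trans (le_of_sandwich h2le (Subgroup.upperCentralSeries_mono P (by omega))
          (card_step hP h4 hbig (by omega : 2 < 4)).1 hbin hb hb') inf_le_left
      exact mem_centralizer_singleton_iff.1 (hC hx)
    have hmove : ∀ (j : ℕ) (x : P), x ∈ ζ (j + 1) → ∀ t : P, x⁻¹ * (t * x * t⁻¹) ∈ ζ j := fun j x hx t => by
      have h := Subgroup.mem_upperCentralSeries_succ_iff.1 (inv_mem hx) t
      rwa [commutatorElement_def, inv_inv, show x⁻¹ * t * x * t⁻¹ = x⁻¹ * (t * x * t⁻¹) by group] at h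
    have h1 := index_centralizer_le a (ζ 1) (hmove 1 a ha)
    have h2 := index_centralizer_le b (ζ 2) (hmove 2 b hb)
    rw [card_zeta hP h4 hbig (by omega : 1 ≤ 4)] at h1
    rw [card_zeta hP h4 hbig (by omega : 2 ≤ 4)] at h2
    calc W.index ≤ (centralizer ({a} : Set P) ⊓ centralizer ({b} : Set P)).index :=
          Nat.le_of_dvd (Nat.pos_of_ne_zero index_ne_zero_of_finite) (index_dvd_of_le hle)
      _ ≤ _ := index_inf_le
      _ ≤ 8 := le_trans (Nat.mul_le_mul h1 h2) (by norm_num)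
  have hWcard := W.card_mul_index
  have hWbig : 2 ^ 11 ≤ Nat.card W := by
    by_contra! h
    have := Nat.mul_le_mul (Nat.le_sub_one_of_lt h) hidx
    omega
  have h4W : ζ 4 ≤ W := by
    rcases normal_cases hP h4 hbig (K := W) le_rfl with h | ⟨j, hj, h⟩
    · exact h
    · rw [h, card_zeta hP h4 hbig (by omega : j ≤ 4)] at hWbig
      have := Nat.pow_le_pow_right (by norm_num : 1 ≤ 2) (by omega : j ≤ 4)
      omega
  have h3W : ζ 3 ≤ W := le_trans (Subgroup.upperCentralSeries_mono P (by omega)) h4W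
  -- the Frattini subgroup
  haveI := hWn
  have hWp : IsPGroup 2 W := hP.to_subgroup W
  set F := (frattini ↥W).map W.subtype with hF
  have hFcard : Nat.card F ≤ 8 := by
    rw [hF, card_map_of_injective W.subtype_injective]
    exact hc
  haveI : F.Normal := by
    rw [hF]
    infer_instance
  obtain ⟨j, hj, hFj⟩ : ∃ j ≤ 3, F = ζ j := by
    rcases normal_cases hP h4 hbig (K := F) le_rfl with h | ⟨j, hj, h⟩
    · have := Subgroup.card_le_of_le h
      omega
    · exact ⟨j, by omega, h⟩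
  have hsqF : ∀ w ∈ W, w * w ∈ F := fun w hw => by
    rw [hF]
    exact ⟨_, CfsgLib.PGroup.pow_mem_frattini hWp ⟨w, hw⟩, by simp [pow_two]⟩
  have hFW : F ≤ W := map_subtype_le _
  -- the bound on `W/F`
  have hbound : Nat.card W ≤ Nat.card F * 2 ^ W.index := by
    obtain ⟨d, hd1, hd2⟩ := exists_gap hP h4 hbig (by omega : j < 4)
    have hdW : d ∈ W := h4W (Subgroup.upperCentralSeries_mono P (by omega) hd1)
    obtain ⟨M, hFM, hMW, hdM, -, hclM⟩ := exists_hyperplane hFW hsqF hdW (hFj ▸ hd2)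
    have hcore : M.normalCore ≤ F := by
      intro x hx
      by_contra hxF
      obtain ⟨y, hyK, hy, hy'⟩ :=
        exists_mem_succ hP.isNilpotent (K := M.normalCore) (i := j) (fun h => hxF (hFj ▸ h hx))
      apply hdM
      have hzW : ζ (j + 1) ≤ W := le_trans (Subgroup.upperCentralSeries_mono P (by omega)) h4W
      exact normalCore_le M (le_of_sandwich (by rw [← hFj]; exact normal_le_normalCore.2 hFM)
        (Subgroup.upperCentralSeries_mono P (Nat.le_succ j))
        (card_step hP h4 hbig (by omega : j < 4)).1 hyK hy hy' hd1)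
    classical
    let f : W → (P ⧸ W → Bool) := fun w q => decide (q.out⁻¹ * (w : P) * q.out ∈ M)
    have hinj : ∀ v w : W, f v = f w → (v : P)⁻¹ * w ∈ F := by
      intro v w hvw
      refine hcore fun t => ?_
      obtain ⟨k, hk⟩ := QuotientGroup.mk_out_eq_mul W t⁻¹
      have hmem : ∀ u : W, (decide ((t⁻¹ : P ⧸ W).out⁻¹ * (u : P) * (t⁻¹ : P ⧸ W).out ∈ M) = true) ↔
          (t * u * t⁻¹ ∈ M) := by
        intro u
        rw [decide_eq_true_iff]
        have hu : t * u * t⁻¹ ∈ W := hWn.conj_mem _ u.2 t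
        have e : (t⁻¹ : P ⧸ W).out⁻¹ * (u : P) * (t⁻¹ : P ⧸ W).out =
            (k : P)⁻¹ * (t * u * t⁻¹) * k := by
          change ((t⁻¹ : P) : P ⧸ W).out⁻¹ * (u : P) * ((t⁻¹ : P) : P ⧸ W).out = _
          rw [hk]
          group
        rw [e]
        have hc : (k : P)⁻¹ * (t * u * t⁻¹) * k * (t * u * t⁻¹)⁻¹ ∈ M := hFM (by
          have := comm_mem_of_sq hsqF (inv_mem k.2) hu
          rwa [inv_inv] at this)
        constructor
        · intro h
          have := mul_mem (inv_mem hc) h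
          rwa [mul_inv_rev, inv_inv, mul_assoc, inv_mul_cancel, mul_one] at this
        · intro h
          have := mul_mem hc h
          rwa [inv_mul_cancel_right] at this
      have hiff : (t * v * t⁻¹ ∈ M) ↔ (t * w * t⁻¹ ∈ M) := by
        rw [← hmem v, ← hmem w]
        exact iff_of_eq (congrArg (· = true) (congrFun hvw (t⁻¹ : P)))
      have hv : t * (v : P) * t⁻¹ ∈ W := hWn.conj_mem _ v.2 t
      have hw : t * (w : P) * t⁻¹ ∈ W := hWn.conj_mem _ w.2 t
      show t * ((v : P)⁻¹ * w) * t⁻¹ ∈ M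
      rw [show t * ((v : P)⁻¹ * w) * t⁻¹ = (t * v * t⁻¹)⁻¹ * (t * w * t⁻¹) by group]
      by_cases h : t * v * t⁻¹ ∈ M
      · exact mul_mem (inv_mem h) (hiff.1 h)
      · have := mul_mem (inv_mem (hclM _ hv h)) (hclM _ hw (fun h' => h (hiff.2 h')))
        rwa [mul_inv_rev, inv_inv, mul_assoc, mul_inv_cancel_left] at this
    have h1 : Nat.card W ≤ Nat.card (F × (P ⧸ W → Bool)) := by
      let s : (P ⧸ W → Bool) → W := fun g => if h : ∃ w, f w = g then h.choose else 1
      refine Nat.card_le_card_of_injective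
        (fun w => (⟨((s (f w) : W) : P)⁻¹ * w, ?_⟩, f w)) fun v w h => ?_
      · refine hinj _ _ ?_
        have h : ∃ u, f u = f w := ⟨w, rfl⟩
        simp only [s, dif_pos h]
        exact h.choose_spec
      · obtain ⟨h1, h2⟩ := Prod.ext_iff.1 h
        have h3 := Subtype.ext_iff.1 h1
        simp only at h2 h3
        rw [h2] at h3
        exact Subtype.ext (mul_left_cancel h3)
    refine le_trans h1 ?_
    rw [Nat.card_prod, Nat.card_fun, Nat.card_eq_fintype_card (α := Bool), Fintype.card_bool,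
      index_eq_card]
  have h8 : 2 ^ W.index ≤ 256 := Nat.pow_le_pow_right (by norm_num) hidx |>.trans (by norm_num)
  have hF8 : Nat.card F = 2 ^ j := by rw [hFj]; exact card_zeta hP h4 hbig (by omega)
  have hj3 : j = 3 := by
    by_contra h
    have h2 : Nat.card F ≤ 4 := by
      rw [hF8]
      exact Nat.pow_le_pow_right (by norm_num) (by omega : j ≤ 2)
    have := le_trans hWbig (le_trans hbound (Nat.mul_le_mul h2 h8))
    omega
  subst hj3
  have hW11 : Nat.card W = 2 ^ 11 := by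
    have := le_trans hbound (Nat.mul_le_mul hF8.le h8)
    omega
  have hP14 : Nat.card P = 2 ^ 14 := by
    have := Nat.mul_le_mul hW11.le hidx
    omega
  have hsq : ∀ w ∈ W, w * w ∈ ζ 3 := fun w hw => hFj ▸ hsqF w hw
  -- large subgroups contain the third centre
  have hlarge : ∀ U : Subgroup P, U ≤ W → 2 ^ 7 ≤ Nat.card U → ζ 3 ≤ U := by
    intro U hUW hU
    have h1 : (U.subgroupOf W).index ≤ 16 := by
      have h2 := (U.subgroupOf W).card_mul_index
      rw [Nat.card_congr (subgroupOfEquivOfLe hUW).toEquiv, hW11] at h2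
      by_contra! h
      have := Nat.mul_le_mul hU (Nat.succ_le_of_lt h)
      omega
    intro x hx
    rw [← hFj, hF] at hx
    obtain ⟨y, hy, rfl⟩ := hx
    exact hd _ h1 hy
  -- no proper normal subgroup catches the commutators
  have hno : ¬ ∀ a ∈ W, ∀ b ∈ W, a * b * a⁻¹ * b⁻¹ ∈ ζ 2 := by
    intro hcm
    obtain ⟨z, hz, hz'⟩ := exists_gap hP h4 hbig (by norm_num : 2 < 4)
    have hn2 : (ζ 2).Normal := inferInstance
    classical
    let K : Subgroup P :=
      { carrier := {w | w ∈ W ∧ w * w ∈ ζ 2}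
        one_mem' := ⟨one_mem _, by rw [mul_one]; exact one_mem _⟩
        mul_mem' := by
          rintro x y ⟨hx, hx2⟩ ⟨hy, hy2⟩
          refine ⟨mul_mem hx hy, ?_⟩
          have h' := mul_mem (mul_mem hx2 (hcm x⁻¹ (inv_mem hx) y hy)) hy2
          rwa [show x * x * (x⁻¹ * y * x⁻¹⁻¹ * y⁻¹) * (y * y) = x * y * (x * y) by group] at h'
        inv_mem' := by
          rintro x ⟨hx, hx2⟩
          refine ⟨inv_mem hx, ?_⟩
          rw [← mul_inv_rev]
          exact inv_mem hx2 }
    have hKW : K ≤ W := fun x hx => hx.1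
    have hsq2 : ∀ y ∈ ζ 3, y * y ∈ ζ 2 := by
      intro y hy
      have hi : ((ζ 2).subgroupOf (ζ 3)).index = 2 := by
        have h2 := ((ζ 2).subgroupOf (ζ 3)).card_mul_index
        rw [Nat.card_congr (subgroupOfEquivOfLe (Subgroup.upperCentralSeries_mono P (by omega : 2 ≤ 3))).toEquiv,
          card_zeta hP h4 hbig (by omega : 2 ≤ 4), card_zeta hP h4 hbig (by omega : 3 ≤ 4)] at h2
        omega
      have := Subgroup.pow_index_mem ((ζ 2).subgroupOf (ζ 3)) ⟨y, hy⟩
      rw [hi] at this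
      simpa [pow_two, mem_subgroupOf] using this
    have hKbig : Nat.card W ≤ 2 * Nat.card K := by
      by_cases hall : ∀ w ∈ W, w * w ∈ ζ 2
      · rw [show K = W from le_antisymm hKW fun w hw => ⟨hw, hall w hw⟩]
        omega
      push Not at hall
      obtain ⟨w₀, hw₀, hw₀'⟩ := hall
      have hi : ((ζ 2).subgroupOf (ζ 3)).index = 2 := by
        have h2 := ((ζ 2).subgroupOf (ζ 3)).card_mul_index
        rw [Nat.card_congr (subgroupOfEquivOfLe (Subgroup.upperCentralSeries_mono P (by omega : 2 ≤ 3))).toEquiv,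
          card_zeta hP h4 hbig (by omega : 2 ≤ 4), card_zeta hP h4 hbig (by omega : 3 ≤ 4)] at h2
        omega
      have hcl : ∀ w ∈ W, w ∈ K ∨ w₀ * w ∈ K := by
        intro w hw
        by_cases h : w * w ∈ ζ 2
        · exact Or.inl ⟨hw, h⟩
        refine Or.inr ⟨mul_mem hw₀ hw, ?_⟩
        have hm : w₀ * w₀ * (w * w) ∈ ζ 2 := by
          have := (mul_mem_iff_of_index_two hi (a := ⟨_, hsq w₀ hw₀⟩) (b := ⟨_, hsq w hw⟩)).2
            (by simp [mem_subgroupOf, hw₀', h])
          simpa [mem_subgroupOf] using this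
        have h' := mul_mem (hn2.conj_mem _ (hcm w hw w₀ hw₀) w₀) hm
        rwa [show w₀ * (w * w₀ * w⁻¹ * w₀⁻¹) * w₀⁻¹ * (w₀ * w₀ * (w * w)) = w₀ * w * (w₀ * w) by group] at h'
      refine le_trans (Nat.card_le_card_of_injective (β := Bool × K)
        (fun w => if h : (w : P) ∈ K then (true, ⟨w, h⟩)
          else (false, ⟨w₀ * w, (hcl w w.2).resolve_left h⟩)) ?_) (by simp [Nat.card_prod])
      intro v w h
      simp only at h
      split_ifs at h with h1 h2 h2 <;> simp only [Prod.mk.injEq, Bool.false_eq_true, Bool.true_eq_false,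
        false_and, true_and, Subtype.mk.injEq] at h
      · exact Subtype.ext h
      · exact Subtype.ext (mul_left_cancel h)
    have h2K : ζ 2 ≤ K := fun y hy =>
      ⟨h3W (Subgroup.upperCentralSeries_mono P (by omega : 2 ≤ 3) hy), mul_mem hy hy⟩
    obtain ⟨M, -, hMK, hzM, hcard, -⟩ :=
      exists_hyperplane h2K (fun y hy => hy.2) (⟨h3W hz, hsq2 z hz⟩ : z ∈ K) hz'
    exact hzM (hlarge M (hMK.trans hKW) (by omega) hz)
  set D := (commutator ↥W).map W.subtype with hD
  have hDn : D.Normal := by rw [hD]; infer_instance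
  have hDmem : ∀ a ∈ W, ∀ b ∈ W, a * b * a⁻¹ * b⁻¹ ∈ D := fun a ha b hb =>
    ⟨_, commutator_mem_commutator (mem_top (⟨a, ha⟩ : W)) (mem_top (⟨b, hb⟩ : W)),
      by simp [commutatorElement_def]⟩
  have hD3 : D = ζ 3 := by
    rcases normal_cases hP h4 hbig (K := D) (i := 3) (by omega) with h | ⟨i, hi, h⟩
    · refine le_antisymm (le_trans (map_mono ?_) (hF ▸ hFj.le)) h
      exact CfsgLib.PGroup.commutator_le_frattini hWp
    · exact absurd (fun a ha b hb => Subgroup.upperCentralSeries_mono P (by omega : i ≤ 2) (h ▸ hDmem a ha b hb)) hno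
  have hcen : ∀ w ∈ W, ∀ z ∈ ζ 3, z * w = w * z := fun w hw z hz => by
    rw [hW, mem_centralizer_iff] at hw
    exact hw z hz
  have helem : ∀ z ∈ ζ 3, z * z = 1 := by
    intro z hz
    have hgen : ∀ u ∈ D, u * u = 1 ∧ u ∈ ζ 3 := by
      intro u hu
      rw [hD, commutator_eq_closure, MonoidHom.map_closure] at hu
      induction hu using closure_induction with
      | mem x hx =>
        obtain ⟨c, ⟨⟨a, ha⟩, ⟨b, hb⟩, rfl⟩, rfl⟩ := hx
        have hC : ∀ a ∈ W, ∀ b ∈ W, a * b * a⁻¹ * b⁻¹ ∈ ζ 3 := fun a ha b hb => comm_mem_of_sq hsq ha hb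
        simp only [commutatorElement_def, Subgroup.subtype_apply, Subgroup.coe_mul, Subgroup.coe_inv]
        refine ⟨?_, hC a ha b hb⟩
        have e1 : a * a * b = b * (a * a) := hcen b hb _ (hsq a ha)
        have e2 : a * b * a⁻¹ * b⁻¹ * a = a * (a * b * a⁻¹ * b⁻¹) := (hcen a ha _ (hC a ha b hb))
        calc a * b * a⁻¹ * b⁻¹ * (a * b * a⁻¹ * b⁻¹)
            = a * b * a⁻¹ * b⁻¹ * a * (b * a⁻¹ * b⁻¹) := by group
          _ = a * (a * b * a⁻¹ * b⁻¹) * (b * a⁻¹ * b⁻¹) := by rw [e2]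
          _ = a * a * b * (a * a)⁻¹ * b⁻¹ := by group
          _ = 1 := by rw [e1]; group
      | one => exact ⟨one_mul 1, one_mem _⟩
      | mul x y _ _ hx hy =>
        refine ⟨?_, mul_mem hx.2 hy.2⟩
        have e : y * x = x * y := hcen x (h3W hx.2) y hy.2
        calc x * y * (x * y) = x * (y * x) * y := by group
          _ = x * (x * y) * y := by rw [e]
          _ = x * x * (y * y) := by group
          _ = 1 := by rw [hx.1, hy.1, one_mul]
      | inv x _ hx => exact ⟨by rw [← mul_inv_rev, hx.1, inv_one], inv_mem hx.2⟩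
    exact (hgen z (hD3.symm ▸ hz)).1
  exact ⟨hWn, hP14, hW11, h3W, hD3, hsq, helem, hlarge, fun v _ hv => hfix 3 v hv⟩

end Shape

end CfsgLib.RuW
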