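import Mathlib
import Cfsg.Agent.Lib.RuW.Shape

/-!
# Odd groups of automorphisms normalised by a 2-group with one nontrivial fixed point
-/

set_option autoImplicit false

namespace CfsgLib.RuW

open Subgroup

variable {V : Type*} [Group V] [Finite V]

/-- A 2-group of automorphisms fixes a nontrivial element of an invariant nontrivial subgroup. -/
theorem exists_fixed_mem {P : Subgroup (MulAut V)} (hP : IsPGroup 2 P) (hV : IsPGroup 2 V) (E : Subgroup V)
    (hE : ∀ p ∈ P, ∀ e ∈ E, p e ∈ E) (hne : E ≠ ⊥) : ∃ e ∈ E, e ≠ 1 ∧ ∀ p ∈ P, p e = e := by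
  have := Fact.mk Nat.prime_two
  letI : MulAction P E :=
    { smul := fun p e => ⟨p.1 e.1, hE p p.2 e e.2⟩
      one_smul := fun _ => rfl
      mul_smul := fun _ _ _ => rfl }
  have h := hP.card_modEq_card_fixedPoints E
  have h2 : 2 ∣ Nat.card E := by
    obtain ⟨k, hk⟩ := IsPGroup.iff_card.1 (hV.to_subgroup E)
    rcases k.eq_zero_or_pos with rfl | hk0
    · exact absurd (Subgroup.card_eq_one.1 (by simpa using hk)) hne
    · rw [hk]; exact dvd_pow_self 2 hk0.ne'
  have h1 : (1 : E) ∈ MulAction.fixedPoints P E := fun p => Subtype.ext (map_one p.1)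
  have hd : 2 ∣ Nat.card (MulAction.fixedPoints P E) := (Nat.ModEq.dvd_iff h dvd_rfl).1 h2
  have hgt : 1 < Nat.card (MulAction.fixedPoints P E) := by
    haveI : Nonempty (MulAction.fixedPoints P E) := ⟨⟨1, h1⟩⟩
    have := Nat.le_of_dvd Nat.card_pos hd
    omega
  haveI := Finite.one_lt_card_iff_nontrivial.1 hgt
  obtain ⟨⟨e, he⟩, hne'⟩ := exists_ne (⟨1, h1⟩ : MulAction.fixedPoints P E)
  exact ⟨e, e.2, fun h => hne' (Subtype.ext (Subtype.ext h)), fun p hp => congrArg Subtype.val (he ⟨p, hp⟩)⟩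

/-- An odd group of automorphisms of an elementary 2-group, normalised by a 2-group with a single
nontrivial fixed point, is trivial as soon as it fixes some nontrivial element. -/
theorem eq_bot_of_fixed {H P : Subgroup (MulAut V)} (h2 : ∀ v : V, v * v = 1) (hH : Odd (Nat.card H))
    (hP : IsPGroup 2 P) (hn : ∀ p ∈ P, ∀ h ∈ H, p * h * p⁻¹ ∈ H) {d : V} (hd : d ≠ 1)
    (honly : ∀ v, (∀ p ∈ P, p v = v) → v = 1 ∨ v = d) {u : V} (hu : u ≠ 1) (huH : ∀ h ∈ H, h u = u) :
    H = ⊥ := by
  classical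
  have hV : IsPGroup 2 V := fun v => ⟨1, by rw [pow_one, pow_two, h2]⟩
  let E0 : Subgroup V :=
    { carrier := {v | ∀ h ∈ H, h v = v}
      one_mem' := fun h _ => map_one h
      mul_mem' := fun {a b} ha hb h hh => by rw [map_mul, ha h hh, hb h hh]
      inv_mem' := fun {a} ha h hh => by rw [map_inv, ha h hh] }
  have hdH : ∀ h ∈ H, h d = d := by
    obtain ⟨e, he, he1, hep⟩ := exists_fixed_mem hP hV E0 (fun p hp v hv h hh => by
      have := hv _ (hn p⁻¹ (inv_mem hp) h hh)
      rw [inv_inv] at this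
      simpa using congrArg p this) (fun hbot => hu (by
        have : u ∈ E0 := huH
        rwa [hbot, mem_bot] at this))
    rcases honly e hep with rfl | rfl
    · exact absurd rfl he1
    · exact he
  obtain ⟨M, -, -, hdM, -, hcl⟩ := exists_hyperplane (Y := (⊤ : Subgroup V)) (S := ⊥) bot_le
    (fun v _ => mem_bot.2 (h2 v)) (mem_top d) (fun h => hd (mem_bot.1 h))
  let lam : V → ZMod 2 := fun v => if v ∈ M then 0 else 1
  have hlam : ∀ a b, lam (a * b) = lam a + lam b := by
    intro a b
    have hbad : a ∉ M → b ∉ M → a * b ∈ M := fun ha hb => by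
      have hi : ∀ x : V, x⁻¹ = x := fun x => inv_eq_of_mul_eq_one_left (h2 x)
      have := mul_mem (inv_mem (hcl a (mem_top a) ha)) (hcl b (mem_top b) hb)
      rwa [mul_inv_rev, inv_inv, mul_assoc, mul_inv_cancel_left, hi] at this
    by_cases ha : a ∈ M <;> by_cases hb : b ∈ M <;>
      simp [lam, ha, hb, mul_mem_cancel_left, mul_mem_cancel_right, hbad]
    decide
  letI := Fintype.ofFinite H
  let mu : V → ZMod 2 := fun v => ∑ h : H, lam (h.1 v)
  have hmu : ∀ a b, mu (a * b) = mu a + mu b := fun a b => by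
    simp only [mu, map_mul, hlam, Finset.sum_add_distrib]
  have hmuH : ∀ k ∈ H, ∀ v, mu (k v) = mu v := fun k hk v =>
    Fintype.sum_equiv (Equiv.mulRight (⟨k, hk⟩ : H)) (fun h : H => lam (h.1 (k v))) (fun h => lam (h.1 v))
      fun h => rfl
  have hmud : mu d = 1 := by
    simp only [mu, fun h : H => hdH h.1 h.2, lam, hdM, if_false, Finset.sum_const, Finset.card_univ,
      nsmul_eq_mul, mul_one]
    rw [← Nat.card_eq_fintype_card]
    exact (ZMod.natCast_eq_one_iff_odd (n := Nat.card H)).2 hH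
  have hmu1 : mu 1 = 0 := by
    have := hmu 1 1
    rw [mul_one] at this
    exact add_eq_left.1 this.symm
  let E : Subgroup V :=
    { carrier := {v | ∀ p ∈ P, mu (p v) = 0}
      one_mem' := fun p _ => by rw [map_one, hmu1]
      mul_mem' := fun {a b} ha hb p hp => by rw [map_mul, hmu, ha p hp, hb p hp, add_zero]
      inv_mem' := fun {a} ha p hp => by
        rw [inv_eq_of_mul_eq_one_left (h2 a)]
        exact ha p hp }
  have hE : E = ⊥ := by
    by_contra hne
    obtain ⟨e, he, he1, hep⟩ := exists_fixed_mem hP hV E (fun p hp v hv q hq => by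
      have := hv _ (mul_mem hq hp)
      simpa using this) hne
    have h0 := he 1 (one_mem _)
    rcases honly e hep with rfl | rfl
    · exact he1 rfl
    · rw [MulAut.one_apply, hmud] at h0
      exact one_ne_zero h0
  rw [eq_bot_iff]
  intro h hh
  rw [mem_bot]
  refine MulEquiv.ext fun v => ?_
  have hmem : h v * v ∈ E := fun p hp => by
    have e := hmuH _ (hn p hp h hh) (p v)
    simp only [MulAut.mul_apply] at e
    rw [map_mul, hmu, show p (h v) = p (h (p⁻¹ (p v))) by simp, e]
    exact (by decide : ∀ a : ZMod 2, a + a = 0) _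
  rw [hE, mem_bot, mul_eq_one_iff_eq_inv, inv_eq_of_mul_eq_one_left (h2 v)] at hmem
  exact hmem

end CfsgLib.RuW
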