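import Mathlib
import Cfsg.Agent.Lib.RuW.Shape
import Cfsg.Agent.Lib.HSRecog.Local
import Cfsg.Agent.Lib.Class49.Primitive

/-!
# The setting in the ambient group and the automorphisms of the third centre
-/

set_option autoImplicit false
set_option linter.style.haveILetI false

namespace CfsgLib.RuW

open Subgroup

/-- Automorphisms of an elementary group of order 8. -/
theorem nonempty_mulAut_equiv_gl {A : Type*} [Group A] [Finite A] (hc : Nat.card A = 8)
    (h2 : ∀ x : A, x * x = 1) : Nonempty (MulAut A ≃* GL (Fin 3) (ZMod 2)) := by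
  letI : CommGroup A :=
    { (inferInstance : Group A) with
      mul_comm := fun x y => by
        have hi : ∀ z : A, z⁻¹ = z := fun z => inv_eq_of_mul_eq_one_left (h2 z)
        rw [← hi (x * y), mul_inv_rev, hi, hi] }
  letI iM : Module (ZMod 2) (Additive A) := AddCommGroup.zmodModule (n := 2) (G := Additive A) fun x => by
    show Additive.ofMul (Additive.toMul x ^ 2) = 0
    rw [pow_two, h2]
    rfl
  have : Fact (Nat.Prime 2) := ⟨Nat.prime_two⟩
  have hfr : Module.finrank (ZMod 2) (Additive A) = 3 := by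
    have h := Module.natCard_eq_pow_finrank (K := ZMod 2) (V := Additive A)
    rw [Nat.card_congr Additive.toMul, hc, Nat.card_zmod] at h
    exact (Nat.pow_right_injective (le_refl 2) (a₁ := 3) h).symm
  let b := Module.finBasisOfFinrankEq (ZMod 2) (Additive A) hfr
  let e1 : MulAut A ≃* (Additive A ≃ₗ[ZMod 2] Additive A) :=
    { toFun := fun f => (MulEquiv.toAdditive f).toLinearEquiv fun c x =>
        ZMod.map_smul (MulEquiv.toAdditive f).toAddMonoidHom c x
      invFun := fun f => MulEquiv.toAdditive.symm f.toAddEquiv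
      left_inv := fun f => MulEquiv.ext fun _ => rfl
      right_inv := fun f => LinearEquiv.ext fun _ => rfl
      map_mul' := fun f g => LinearEquiv.ext fun _ => rfl }
  exact ⟨e1.trans ((LinearMap.GeneralLinearGroup.generalLinearEquiv (ZMod 2) (Additive A)).symm.trans
    (Units.mapEquiv (LinearMap.toMatrixAlgEquiv b).toMulEquiv))⟩

theorem exists_order_four_gl : ∃ y : GL (Fin 3) (ZMod 2), orderOf y = 4 := by
  refine ⟨⟨!![1, 1, 0; 0, 1, 1; 0, 0, 1], !![1, 1, 1; 0, 1, 1; 0, 0, 1], by decide, by decide⟩, ?_⟩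
  have h0 : (!![1, 1, 0; 0, 1, 1; 0, 0, 1] : Matrix (Fin 3) (Fin 3) (ZMod 2)) ^ 2 ^ 1 ≠ 1 := by decide
  have := Fact.mk Nat.prime_two
  refine orderOf_eq_prime_pow (p := 2) (n := 1) ?_ ?_
  · intro h
    have := congrArg (fun M : GL (Fin 3) (ZMod 2) => (M : Matrix (Fin 3) (Fin 3) (ZMod 2))) h
    simp only [Units.val_pow_eq_pow_val, Units.val_one] at this
    exact h0 this
  · ext1
    simp only [Units.val_pow_eq_pow_val, Units.val_one]
    decide

/-- The setting. -/
structure Setup (G : Type*) [Group G] where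
  T : Sylow 2 G
  W : Subgroup G
  Z : Subgroup G
  cardT : Nat.card (T : Subgroup G) = 2 ^ 14
  cardW : Nat.card W = 2 ^ 11
  cardZ : Nat.card Z = 8
  hWT : W ≤ (T : Subgroup G)
  hZW : Z ≤ W
  normW : ∀ t ∈ (T : Subgroup G), ∀ w ∈ W, t * w * t⁻¹ ∈ W
  sq : ∀ w ∈ W, w * w ∈ Z
  invol : ∀ z ∈ Z, z * z = 1
  cen : ∀ t ∈ (T : Subgroup G), t ∈ W ↔ ∀ z ∈ Z, z * t = t * z
  large : ∀ U : Subgroup G, U ≤ W → 2 ^ 7 ≤ Nat.card U → Z ≤ U
  A : Subgroup G
  B : Subgroup G
  hAB : A ≤ B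
  hBZ : B ≤ Z
  cardA : Nat.card A = 2
  cardB : Nat.card B = 4
  memA : ∀ v ∈ Z, v ∈ A ↔ ∀ t ∈ (T : Subgroup G), t * v * t⁻¹ * v⁻¹ = 1
  memB : ∀ v ∈ Z, v ∈ B ↔ ∀ t ∈ (T : Subgroup G), t * v * t⁻¹ * v⁻¹ ∈ A
  d : G
  hdW : d ∈ W
  hdZ : d ∉ Z
  hdfix : ∀ t ∈ (T : Subgroup G), t * d * t⁻¹ * d⁻¹ ∈ Z
  fix : ∀ v ∈ W, (∀ t ∈ (T : Subgroup G), t * v * t⁻¹ * v⁻¹ ∈ Z) → v ∈ Z ∨ d⁻¹ * v ∈ Z

variable {G : Type*} [Group G] [Finite G] (S : Setup G)

namespace Setup

omit [Finite G] in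
theorem central {w z : G} (hw : w ∈ S.W) (hz : z ∈ S.Z) : z * w = w * z :=
  (S.cen w (S.hWT hw)).1 hw z hz

theorem le_closure_sq {Y : Subgroup G} (hYW : Y ≤ S.W) (hY : 2 ^ 8 ≤ Nat.card Y) :
    S.Z ≤ closure {x | ∃ y ∈ Y, y * y = x} := by
  intro z hz
  by_contra hz'
  have hZY : S.Z ≤ Y := S.large Y hYW (le_trans (by norm_num) hY)
  have hle : closure {x | ∃ y ∈ Y, y * y = x} ≤ Y := by
    rw [closure_le]
    rintro x ⟨y, hy, rfl⟩
    exact mul_mem hy hy
  obtain ⟨M, -, hMY, hzM, hcard, -⟩ :=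
    exists_hyperplane hle (fun y hy => subset_closure ⟨y, hy, rfl⟩) (hZY hz) hz'
  exact hzM (S.large M (hMY.trans hYW) (by omega) hz)

theorem conj_Z {x : G} (hx : ∀ w ∈ S.W, x * w * x⁻¹ ∈ S.W) {z : G} (hz : z ∈ S.Z) :
    x * z * x⁻¹ ∈ S.Z := by
  have h := S.le_closure_sq (Y := S.W) le_rfl (by rw [S.cardW]; norm_num) hz
  have hmap := mem_map_of_mem (MulAut.conj x).toMonoidHom h
  rw [MonoidHom.map_closure] at hmap
  refine (closure_le _).2 ?_ hmap
  rintro _ ⟨_, ⟨y, hy, rfl⟩, rfl⟩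
  have h2 := S.sq _ (hx y hy)
  rwa [show x * y * x⁻¹ * (x * y * x⁻¹) = (MulAut.conj x).toMonoidHom (y * y) by simp [mul_assoc]] at h2

theorem mem_normalizer_of_conj {K : Subgroup G} {x : G} (hx : ∀ k ∈ K, x * k * x⁻¹ ∈ K) :
    x ∈ normalizer (K : Set G) := by
  rw [mem_normalizer_iff]
  intro k
  refine ⟨hx k, fun hk => ?_⟩
  have hmap : K.map (MulAut.conj x).toMonoidHom = K := Subgroup.eq_of_le_of_card_ge
    (by rintro _ ⟨a, ha, rfl⟩; exact hx a ha)
    (le_of_eq (card_map_of_injective (MulAut.conj x).injective).symm)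
  rw [← hmap] at hk
  obtain ⟨a, ha, e⟩ := hk
  simp only [MulEquiv.coe_toMonoidHom, MulAut.conj_apply, mul_left_inj, mul_right_inj] at e
  exact e ▸ ha

theorem T_le_N : (S.T : Subgroup G) ≤ normalizer (S.W : Set G) :=
  fun t ht => mem_normalizer_of_conj fun w hw => S.normW t ht w hw

theorem N_le_M : normalizer (S.W : Set G) ≤ normalizer (S.Z : Set G) :=
  fun x hx => mem_normalizer_of_conj fun _ hz =>
    S.conj_Z (fun w hw => (mem_normalizer_iff.1 hx w).1 hw) hz

theorem T_le_M : (S.T : Subgroup G) ≤ normalizer (S.Z : Set G) := S.T_le_N.trans S.N_le_M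

omit [Finite G] in
theorem W_le_cen : S.W ≤ centralizer (S.Z : Set G) :=
  fun w hw => mem_centralizer_iff.2 fun _ hz => S.central hw hz

/-- The action on `Z`. -/
noncomputable def act : ↥(normalizer (S.Z : Set G)) →* MulAut S.Z := S.Z.normalizerMonoidHom

omit [Finite G] in
theorem act_coe (x : ↥(normalizer (S.Z : Set G))) (z : S.Z) :
    ((S.act x z : S.Z) : G) = (x : G) * z * (x : G)⁻¹ := rfl

omit [Finite G] in
theorem act_eq_one {x : ↥(normalizer (S.Z : Set G))} :
    S.act x = 1 ↔ (x : G) ∈ centralizer (S.Z : Set G) := by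
  rw [← MonoidHom.mem_ker]
  change x ∈ S.Z.normalizerMonoidHom.ker ↔ _
  rw [normalizerMonoidHom_ker, mem_subgroupOf]

/-- The image of `T`. -/
noncomputable def P : Subgroup (MulAut S.Z) := ((S.T : Subgroup G).subgroupOf _).map S.act

theorem cardP : Nat.card S.P = 8 := by
  let f : ↥((S.T : Subgroup G).subgroupOf (normalizer (S.Z : Set G))) →* MulAut S.Z :=
    S.act.comp (Subgroup.subtype _)
  have hker : Nat.card f.ker = 2 ^ 11 := by
    rw [← S.cardW]
    refine Nat.card_congr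
      { toFun := fun x => ⟨((x : _) : ↥(normalizer (S.Z : Set G))), ?_⟩
        invFun := fun w => ⟨⟨⟨w, S.T_le_M (S.hWT w.2)⟩, mem_subgroupOf.2 (S.hWT w.2)⟩,
          S.act_eq_one.2 (S.W_le_cen w.2)⟩
        left_inv := fun x => rfl
        right_inv := fun w => rfl }
    have hc := S.act_eq_one.1 (x.2 : f x = 1)
    exact (S.cen _ (mem_subgroupOf.1 x.1.2)).2 fun z hz => mem_centralizer_iff.1 hc z hz
  have hrange : f.range = S.P := by
    rw [P, MonoidHom.range_comp, range_subtype]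
  have h := f.ker.card_mul_index
  rw [index_ker, hker, hrange, Nat.card_congr (subgroupOfEquivOfLe S.T_le_M).toEquiv, S.cardT] at h
  omega

theorem card_aut : Nat.card (MulAut S.Z) = 168 := by
  obtain ⟨e⟩ := nonempty_mulAut_equiv_gl S.cardZ fun x => Subtype.ext (S.invol x x.2)
  rw [Nat.card_congr e.toEquiv, HSRecog.card_gl32]

theorem aut_simple : IsSimpleGroup (MulAut S.Z) := by
  obtain ⟨e⟩ := nonempty_mulAut_equiv_gl S.cardZ fun x => Subtype.ext (S.invol x x.2)
  haveI := HSRecog.isSimpleGroup_gl32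
  exact e.isSimpleGroup

/-- No elementary group of order 8 acts faithfully on `Z`. -/
theorem not_elementary {E : Subgroup (MulAut S.Z)} (hE : Nat.card E = 8) :
    ∃ e ∈ E, e * e ≠ 1 := by
  have := Fact.mk Nat.prime_two
  by_contra! h
  obtain ⟨φ⟩ := nonempty_mulAut_equiv_gl S.cardZ fun x => Subtype.ext (S.invol x x.2)
  obtain ⟨y, hy⟩ := exists_order_four_gl
  have hx : orderOf (φ.symm y) = 4 := by rw [MulEquiv.orderOf_eq, hy]
  have hfac : (Nat.card (MulAut S.Z)).factorization 2 = 3 := by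
    rw [S.card_aut, show 168 = 2 ^ 3 * 21 by norm_num, Nat.factorization_mul (by norm_num) (by norm_num),
      Finsupp.add_apply, Nat.prime_two.factorization_pow, Finsupp.single_eq_same,
      Nat.factorization_eq_zero_of_not_dvd (by norm_num)]
  let E' : Sylow 2 (MulAut S.Z) := Sylow.ofCard E (by rw [hE, hfac]; norm_num)
  have hp : IsPGroup 2 (zpowers (φ.symm y)) :=
    IsPGroup.of_card (n := 2) (by rw [Nat.card_zpowers, hx]; norm_num)
  obtain ⟨Q, hQ⟩ := hp.exists_le_sylow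
  obtain ⟨g, hg⟩ := MulAction.exists_smul_eq (MulAut S.Z) Q E'
  have hmem : g * φ.symm y * g⁻¹ ∈ ((g • Q : Sylow 2 (MulAut S.Z)) : Subgroup (MulAut S.Z)) := by
    rw [Sylow.coe_subgroup_smul]
    exact ⟨_, hQ (mem_zpowers _), rfl⟩
  rw [hg] at hmem
  have h2 : φ.symm y * φ.symm y = 1 := by
    have := h _ hmem
    rw [show g * φ.symm y * g⁻¹ * (g * φ.symm y * g⁻¹) = g * (φ.symm y * φ.symm y) * g⁻¹ by group,
      mul_inv_eq_one] at this
    exact mul_left_cancel (this.trans (mul_one g).symm)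
  have := orderOf_le_of_pow_eq_one (x := φ.symm y) (by norm_num : 0 < 2) (by rw [pow_two]; exact h2)
  omega

/-- The image of `T` is its own normaliser. -/
theorem card_le_of_normalizes {X : Subgroup (MulAut S.Z)}
    (hX : ∀ x ∈ X, ∀ p ∈ S.P, x * p * x⁻¹ ∈ S.P) : Nat.card X ≤ 8 := by
  classical
  have hPmem : ∀ t, ∀ ht : t ∈ (S.T : Subgroup G), S.act ⟨t, S.T_le_M ht⟩ ∈ S.P := fun t ht =>
    ⟨⟨t, S.T_le_M ht⟩, mem_subgroupOf.2 ht, rfl⟩
  have hfixA : ∀ v : S.Z, ((v : G) ∈ S.A ↔ ∀ p ∈ S.P, p v = v) := by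
    intro v
    rw [S.memA v v.2]
    constructor
    · rintro h _ ⟨t, ht, rfl⟩
      exact Subtype.ext (by rw [act_coe]; exact mul_inv_eq_one.1 (h t ht))
    · intro h t ht
      have := congrArg Subtype.val (h _ (hPmem t ht))
      rw [act_coe] at this
      exact mul_inv_eq_one.2 this
  have hfixB : ∀ v : S.Z, ((v : G) ∈ S.B ↔ ∀ p ∈ S.P, ((p v * v⁻¹ : S.Z) : G) ∈ S.A) := by
    intro v
    rw [S.memB v v.2]
    constructor
    · rintro h _ ⟨t, ht, rfl⟩
      simpa [act_coe] using h t ht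
    · intro h t ht
      simpa [act_coe] using h _ (hPmem t ht)
  have hXA : ∀ x ∈ X, ∀ v : S.Z, (v : G) ∈ S.A → ((x v : S.Z) : G) ∈ S.A := by
    intro x hx v hv
    rw [hfixA]
    intro p hp
    have h := (hfixA v).1 hv _ (hX x⁻¹ (inv_mem hx) p hp)
    rw [inv_inv] at h
    simp only [MulAut.mul_apply] at h
    have := congrArg x h
    simpa using this
  have hXB : ∀ x ∈ X, ∀ v : S.Z, (v : G) ∈ S.B → ((x v : S.Z) : G) ∈ S.B := by
    intro x hx v hv
    rw [hfixB]
    intro p hp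
    have h := (hfixB v).1 hv _ (hX x⁻¹ (inv_mem hx) p hp)
    have := hXA x hx _ h
    simpa [MulAut.mul_apply] using this
  have hAfix : ∀ x ∈ X, ∀ v : S.Z, (v : G) ∈ S.A → x v = v := by
    intro x hx v hv
    by_cases hv1 : v = 1
    · rw [hv1, map_one]
    obtain ⟨a, b, -, hab⟩ := Nat.card_eq_two_iff.1 S.cardA
    have hall : ∀ u : S.A, u = a ∨ u = b := fun u => by
      have : u ∈ ({a, b} : Set S.A) := by rw [hab]; trivial
      simpa using this
    have key : ∀ u : S.A, u ≠ 1 → u = ⟨v, hv⟩ := by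
      intro u hu
      have hv' : (⟨v, hv⟩ : S.A) ≠ 1 := fun e => hv1 (by ext; simpa using congrArg Subtype.val e)
      rcases hall u with r | r <;> rcases hall ⟨v, hv⟩ with s | s <;> rcases hall 1 with o | o <;>
        first | exact r.trans s.symm | exact absurd (r.trans o.symm) hu | exact absurd (s.trans o.symm) hv'
    have h := key ⟨_, hXA x hx v hv⟩ (fun e => hv1 (by
      have e' : x v = 1 := Subtype.ext (show ((x v : S.Z) : G) = 1 from congrArg (fun u : S.A => (u : G)) e)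
      exact (map_eq_one_iff x x.injective).1 e'))
    exact Subtype.ext (show ((x v : S.Z) : G) = (v : G) from congrArg (fun u : S.A => (u : G)) h)
  -- a flag
  obtain ⟨a, haB, haA⟩ : ∃ a ∈ S.B, a ∉ S.A := by
    by_contra! h
    have := Subgroup.card_le_of_le (K := S.A) (H := S.B) h
    rw [S.cardA, S.cardB] at this
    omega
  obtain ⟨b, hbZ, hbB⟩ : ∃ b ∈ S.Z, b ∉ S.B := by
    by_contra! h
    have := Subgroup.card_le_of_le (K := S.B) (H := S.Z) h
    rw [S.cardB, S.cardZ] at this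
    omega
  have hcoset : ∀ (L K : Subgroup G), L ≤ K → Nat.card K = 2 * Nat.card L → ∀ u v : G, u ∈ K → v ∈ K →
      u ∉ L → v ∉ L → u⁻¹ * v ∈ L := by
    intro L K hLK hc u v hu hv hu' hv'
    have hi : (L.subgroupOf K).index = 2 := by
      have := (L.subgroupOf K).card_mul_index
      rw [Nat.card_congr (subgroupOfEquivOfLe hLK).toEquiv, hc, mul_comm 2] at this
      exact Nat.eq_of_mul_eq_mul_left Nat.card_pos this
    have := (mul_mem_iff_of_index_two hi (a := ⟨u⁻¹, inv_mem hu⟩) (b := ⟨v, hv⟩)).2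
      (by simp [mem_subgroupOf, hu', hv'])
    simpa [mem_subgroupOf] using this
  have haZ := S.hBZ haB
  have hca : Nat.card S.B = 2 * Nat.card S.A := by rw [S.cardA, S.cardB]
  have hcb : Nat.card S.Z = 2 * Nat.card S.B := by rw [S.cardB, S.cardZ]
  have hmoveA : ∀ x : X, a⁻¹ * ((x.1 ⟨a, haZ⟩ : S.Z) : G) ∈ S.A := fun x =>
    hcoset _ _ S.hAB hca _ _ haB (hXB _ x.2 _ haB) haA fun h => haA (by
      have := hXA _ (inv_mem x.2) _ h
      simpa using this)
  have hmoveB : ∀ x : X, b⁻¹ * ((x.1 ⟨b, hbZ⟩ : S.Z) : G) ∈ S.B := fun x =>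
    hcoset _ _ S.hBZ hcb _ _ hbZ (x.1 ⟨b, hbZ⟩).2 hbB fun h => hbB (by
      have := hXB _ (inv_mem x.2) _ h
      simpa using this)
  refine le_trans (Nat.card_le_card_of_injective (β := S.A × S.B)
    (fun x => (⟨_, hmoveA x⟩, ⟨_, hmoveB x⟩)) ?_)
    (by rw [Nat.card_prod, S.cardA, S.cardB])
  intro x y h
  simp only [Prod.mk.injEq, Subtype.mk.injEq, mul_right_inj, SetLike.coe_eq_coe] at h
  refine Subtype.ext (MulEquiv.ext fun v => ?_)
  let E : Subgroup S.Z :=
    { carrier := {v | x.1 v = y.1 v}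
      one_mem' := by simp
      mul_mem' := fun {u v} hu hv => show x.1 (u * v) = y.1 (u * v) by rw [map_mul, map_mul, hu, hv]
      inv_mem' := fun {u} hu => show x.1 u⁻¹ = y.1 u⁻¹ by rw [map_inv, map_inv, hu] }
  have hA : S.A.subgroupOf S.Z ≤ E := fun u hu => by
    show x.1 u = y.1 u
    rw [hAfix _ x.2 u hu, hAfix _ y.2 u hu]
  have hB : S.B.subgroupOf S.Z ≤ E := le_of_sandwich hA
    (fun u hu => S.hAB hu)
    (by rw [Nat.card_congr (subgroupOfEquivOfLe S.hBZ).toEquiv,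
          Nat.card_congr (subgroupOfEquivOfLe (S.hAB.trans S.hBZ)).toEquiv, hca])
    (x := (⟨a, haZ⟩ : S.Z)) h.1 haB haA
  have hT : (⊤ : Subgroup S.Z) ≤ E := le_of_sandwich hB le_top
    (by rw [card_top, Nat.card_congr (subgroupOfEquivOfLe S.hBZ).toEquiv, hcb])
    (x := (⟨b, hbZ⟩ : S.Z)) h.2 trivial hbB
  exact hT (mem_top v)

include S in
theorem not_dvd : ¬ 2 ^ 15 ∣ Nat.card G := by
  have := Fact.mk Nat.prime_two
  intro h
  have h1 := S.T.card_eq_multiplicity
  rw [S.cardT] at h1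
  have h2 := Nat.pow_right_injective (le_refl 2) h1
  have := (Nat.prime_two.pow_dvd_iff_le_factorization Nat.card_pos.ne').1 h
  omega

/-- The order of the centraliser of `Z` has 2-part that of `W`. -/
theorem not_dvd_cen : ¬ 2 ^ 12 ∣ Nat.card (centralizer (S.Z : Set G)) := by
  intro h
  have hk : Nat.card S.act.ker = Nat.card (centralizer (S.Z : Set G)) := by
    change Nat.card S.Z.normalizerMonoidHom.ker = _
    rw [normalizerMonoidHom_ker]
    exact Nat.card_congr (subgroupOfEquivOfLe (centralizer_le_normalizer _)).toEquiv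
  have h8 : 8 ∣ Nat.card S.act.range := by
    rw [← S.cardP]
    exact Subgroup.card_dvd_of_le (map_le_range _ _)
  have hM := S.act.ker.card_mul_index
  rw [index_ker, hk] at hM
  refine S.not_dvd (dvd_trans ?_ (Subgroup.card_subgroup_dvd_card (normalizer (S.Z : Set G))))
  rw [← hM]
  exact dvd_trans (by norm_num) (Nat.mul_dvd_mul h h8)

/-- The squares of 2-elements of the centraliser of `Z` lie in `Z`. -/
theorem sq_cen {y : G} (hy : y ∈ centralizer (S.Z : Set G)) {k : ℕ} (hk : y ^ 2 ^ k = 1) :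
    y * y ∈ S.Z := by
  have := Fact.mk Nat.prime_two
  let C := centralizer (S.Z : Set G)
  have hfac : (Nat.card C).factorization 2 = 11 := by
    refine le_antisymm ?_ ?_
    · by_contra h
      exact S.not_dvd_cen ((Nat.prime_two.pow_dvd_iff_le_factorization Nat.card_pos.ne').2
        (show 12 ≤ (Nat.card C).factorization 2 by omega))
    · exact (Nat.prime_two.pow_dvd_iff_le_factorization Nat.card_pos.ne').1
        (S.cardW ▸ Subgroup.card_dvd_of_le S.W_le_cen)
  let Q : Sylow 2 C := Sylow.ofCard (S.W.subgroupOf C)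
    (by rw [Nat.card_congr (subgroupOfEquivOfLe S.W_le_cen).toEquiv, S.cardW, hfac])
  have hp : IsPGroup 2 (zpowers (⟨y, hy⟩ : C)) := by
    have hd : orderOf (⟨y, hy⟩ : C) ∣ 2 ^ k := orderOf_dvd_of_pow_eq_one (Subtype.ext (by simpa using hk))
    obtain ⟨j, -, hj⟩ := (Nat.dvd_prime_pow Nat.prime_two).1 hd
    exact IsPGroup.of_card (n := j) (by rw [Nat.card_zpowers, hj])
  obtain ⟨R, hR⟩ := hp.exists_le_sylow
  obtain ⟨g, hg⟩ := MulAction.exists_smul_eq C R Q
  have h1 : g * ⟨y, hy⟩ * g⁻¹ ∈ ((g • R : Sylow 2 C) : Subgroup C) := by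
    rw [Sylow.coe_subgroup_smul]
    exact ⟨_, hR (mem_zpowers _), rfl⟩
  rw [hg] at h1
  have h2 : (g : G) * y * (g : G)⁻¹ ∈ S.W := by
    simpa [Q, mem_subgroupOf] using h1
  have hz := S.sq _ h2
  rw [show (g : G) * y * (g : G)⁻¹ * ((g : G) * y * (g : G)⁻¹) = (g : G) * (y * y) * (g : G)⁻¹ by group]
    at hz
  have e := mem_centralizer_iff.1 g.2 _ hz
  have : (g : G) * (y * y) * (g : G)⁻¹ = y * y := by
    calc (g : G) * (y * y) * (g : G)⁻¹ = (g : G)⁻¹ * ((g : G) * ((g : G) * (y * y) * (g : G)⁻¹)) := by group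
      _ = (g : G)⁻¹ * ((g : G) * (y * y) * (g : G)⁻¹ * (g : G)) := by rw [e]
      _ = _ := by group
  rwa [this] at hz

end Setup

end CfsgLib.RuW
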