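import Mathlib
import Cfsg.Agent.Lib.OrbitTransfer.Basic

/-!
# Orbit sums of transfer cocycles along subnormal steps of index two
-/

set_option autoImplicit false

namespace CfsgLib.RuW

open Subgroup CfsgLib.OrbitTransfer

variable {G : Type*} [Group G] [Finite G] (H : Subgroup G) (φ : ↥H →* Multiplicative (ZMod 2))

/-- The orbit of a coset under a subgroup, as a finite set. -/
noncomputable def orb (K : Subgroup G) (q : G ⧸ H) : Finset (G ⧸ H) := by
  classical
  letI := Fintype.ofFinite (G ⧸ H)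
  exact Finset.univ.filter fun p => ∃ k ∈ K, k • q = p

/-- The orbit sum of the cocycle. -/
noncomputable def osum (K : Subgroup G) (q : G ⧸ H) (a : G) : ZMod 2 := ∑ p ∈ orb H K q, f H φ a p

theorem mem_orb {K : Subgroup G} {q p : G ⧸ H} : p ∈ orb H K q ↔ ∃ k ∈ K, k • q = p := by
  classical
  simp [orb]

theorem smul_mem_orb {K : Subgroup G} {q p : G ⧸ H} {k : G} (hk : k ∈ K) :
    k • p ∈ orb H K q ↔ p ∈ orb H K q := by
  simp only [mem_orb]
  constructor
  · rintro ⟨l, hl, e⟩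
    exact ⟨k⁻¹ * l, mul_mem (inv_mem hk) hl, by rw [mul_smul, e, inv_smul_smul]⟩
  · rintro ⟨l, hl, e⟩
    exact ⟨k * l, mul_mem hk hl, by rw [mul_smul, e]⟩

theorem sum_orb_smul {K : Subgroup G} {q : G ⧸ H} {k : G} (hk : k ∈ K) (F : G ⧸ H → ZMod 2) :
    ∑ p ∈ orb H K q, F (k • p) = ∑ p ∈ orb H K q, F p :=
  Finset.sum_nbij' (fun p => k • p) (fun p => k⁻¹ • p) (fun _ hp => (smul_mem_orb H hk).2 hp)
    (fun _ hp => (smul_mem_orb H (inv_mem hk)).2 hp) (fun p _ => inv_smul_smul k p)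
    (fun p _ => smul_inv_smul k p) (fun _ _ => rfl)

theorem osum_mul {K : Subgroup G} {q : G ⧸ H} {a b : G} (hb : b ∈ K) :
    osum H φ K q (a * b) = osum H φ K q a + osum H φ K q b := by
  unfold osum
  rw [← sum_orb_smul H hb (fun p => f H φ a p), ← Finset.sum_add_distrib]
  exact Finset.sum_congr rfl fun p _ => f_mul H φ a b p

theorem osum_one {K : Subgroup G} {q : G ⧸ H} : osum H φ K q 1 = 0 := by
  have h := osum_mul H φ (K := K) (q := q) (a := 1) (one_mem K)
  rw [mul_one] at h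
  exact (add_eq_left.1 h.symm)

theorem osum_inv {K : Subgroup G} {q : G ⧸ H} {a : G} (ha : a ∈ K) :
    osum H φ K q a⁻¹ = osum H φ K q a := by
  have h := osum_mul H φ (K := K) (q := q) (a := a⁻¹) ha
  rw [inv_mul_cancel, osum_one] at h
  exact (by decide : ∀ x y : ZMod 2, 0 = x + y → x = y) _ _ h

/-- The orbit sums vanishing on a subset vanish on the subgroup it generates. -/
theorem osum_closure {K : Subgroup G} {q : G ⧸ H} {S : Set G} (hS : ∀ s ∈ S, s ∈ K)
    (h : ∀ s ∈ S, osum H φ K q s = 0) {x : G} (hx : x ∈ closure S) : osum H φ K q x = 0 := by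
  have : x ∈ K ∧ osum H φ K q x = 0 := by
    induction hx using closure_induction with
    | mem x hx => exact ⟨hS x hx, h x hx⟩
    | one => exact ⟨one_mem _, osum_one H φ⟩
    | mul x y _ _ hx hy => exact ⟨mul_mem hx.1 hy.1, by rw [osum_mul H φ hy.1, hx.2, hy.2, add_zero]⟩
    | inv x _ hx => exact ⟨inv_mem hx.1, by rw [osum_inv H φ hx.1, hx.2]⟩
  exact this.2

theorem osum_sq {K : Subgroup G} {q : G ⧸ H} {a : G} (ha : a ∈ K) : osum H φ K q (a * a) = 0 := by
  rw [osum_mul H φ ha]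
  exact (by decide : ∀ x : ZMod 2, x + x = 0) _

/-- A subgroup fixing the base coset. -/
theorem osum_fixed {K : Subgroup G} {q : G ⧸ H} (h : ∀ k ∈ K, k • q = q) (a : G) :
    osum H φ K q a = f H φ a q := by
  have : orb H K q = {q} := by
    ext p
    rw [mem_orb, Finset.mem_singleton]
    exact ⟨fun ⟨k, hk, e⟩ => e.symm.trans (h k hk), fun e => ⟨1, one_mem _, by rw [one_smul, e]⟩⟩
  rw [osum, this, Finset.sum_singleton]

/-- The overgroup of index two given by a normalising element. -/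
theorem exists_ext (K : Subgroup G) {w : G} (hn : ∀ k ∈ K, w⁻¹ * k * w ∈ K) (h2 : w * w ∈ K) :
    ∃ L : Subgroup G, ∀ n, n ∈ L ↔ (n ∈ K ∨ w⁻¹ * n ∈ K) := by
  have hn' : ∀ k ∈ K, w * k * w⁻¹ ∈ K := fun k hk => by
    have := mul_mem (mul_mem h2 (hn k hk)) (inv_mem h2)
    rwa [show w * w * (w⁻¹ * k * w) * (w * w)⁻¹ = w * k * w⁻¹ by group] at this
  refine ⟨{ carrier := {n | n ∈ K ∨ w⁻¹ * n ∈ K}
            one_mem' := Or.inl (one_mem K)
            mul_mem' := ?_
            inv_mem' := ?_ }, fun n => Iff.rfl⟩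
  · rintro a b (ha | ha) (hb | hb)
    · exact Or.inl (mul_mem ha hb)
    · refine Or.inr ?_
      have := mul_mem (hn a ha) hb
      rwa [show w⁻¹ * a * w * (w⁻¹ * b) = w⁻¹ * (a * b) by group] at this
    · refine Or.inr ?_
      have := mul_mem ha hb
      rwa [mul_assoc] at this
    · refine Or.inl ?_
      have := mul_mem (mul_mem (hn' _ ha) h2) hb
      rwa [show w * (w⁻¹ * a) * w⁻¹ * (w * w) * (w⁻¹ * b) = a * b by group] at this
  · rintro a (ha | ha)
    · exact Or.inl (inv_mem ha)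
    · refine Or.inr ?_
      have := mul_mem (inv_mem h2) (hn' _ (inv_mem ha))
      rwa [show (w * w)⁻¹ * (w * (w⁻¹ * a)⁻¹ * w⁻¹) = w⁻¹ * a⁻¹ by group] at this

/-- The orbit sums of an index two overgroup. -/
theorem osum_step {K L : Subgroup G} {q : G ⧸ H} {w : G} (hw : w ∉ K)
    (hn : ∀ k ∈ K, w⁻¹ * k * w ∈ K) (h2 : w * w ∈ K) (hL : ∀ n, n ∈ L ↔ (n ∈ K ∨ w⁻¹ * n ∈ K))
    (hstab : ∀ l ∈ L, l • q = q → l ∈ K) :
    (∀ k ∈ K, osum H φ L q k = osum H φ K q k + osum H φ K q (w⁻¹ * k * w)) ∧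
      osum H φ L q w = osum H φ K q (w * w) := by
  classical
  have hwL : w ∈ L := (hL w).2 (Or.inr (by rw [inv_mul_cancel]; exact one_mem K))
  have hKL : ∀ k ∈ K, k ∈ L := fun k hk => (hL k).2 (Or.inl hk)
  have hdisj : Disjoint (orb H K q) ((orb H K q).image (w • ·)) := by
    rw [Finset.disjoint_left]
    intro p hp hp'
    obtain ⟨k, hk, rfl⟩ := (mem_orb H).1 hp
    obtain ⟨p', hp'', e⟩ := Finset.mem_image.1 hp'
    obtain ⟨k', hk', rfl⟩ := (mem_orb H).1 hp''
    have hfix : (k⁻¹ * w * k') • q = q := by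
      rw [mul_smul, mul_smul, e, inv_smul_smul]
    have := hstab _ (mul_mem (mul_mem (inv_mem (hKL k hk)) hwL) (hKL k' hk')) hfix
    refine hw ?_
    have hm := mul_mem (mul_mem hk this) (inv_mem hk')
    rwa [show k * (k⁻¹ * w * k') * k'⁻¹ = w by group] at hm
  have hun : orb H L q = orb H K q ∪ (orb H K q).image (w • ·) := by
    ext p
    rw [Finset.mem_union, Finset.mem_image]
    constructor
    · intro hp
      obtain ⟨l, hl, rfl⟩ := (mem_orb H).1 hp
      rcases (hL l).1 hl with h | h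
      · exact Or.inl ((mem_orb H).2 ⟨l, h, rfl⟩)
      · exact Or.inr ⟨_, (mem_orb H).2 ⟨_, h, rfl⟩, by rw [← mul_smul, mul_inv_cancel_left]⟩
    · rintro (hp | ⟨p', hp', rfl⟩)
      · obtain ⟨k, hk, rfl⟩ := (mem_orb H).1 hp
        exact (mem_orb H).2 ⟨k, hKL k hk, rfl⟩
      · obtain ⟨k, hk, rfl⟩ := (mem_orb H).1 hp'
        exact (mem_orb H).2 ⟨w * k, mul_mem hwL (hKL k hk), mul_smul w k q⟩
  have hsplit : ∀ a, osum H φ L q a = osum H φ K q a + ∑ p ∈ orb H K q, f H φ a (w • p) := fun a => by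
    rw [osum, hun, Finset.sum_union hdisj, Finset.sum_image fun _ _ _ _ h => smul_left_cancel w h]
    rfl
  refine ⟨fun k hk => ?_, ?_⟩
  · rw [hsplit]
    congr 1
    have h1 : ∀ p, f H φ k (w • p) =
        f H φ w ((w⁻¹ * k * w) • p) + f H φ (w⁻¹ * k * w) p + f H φ w p := fun p => by
      have e1 := f_mul H φ k w p
      have e2 := f_mul H φ w (w⁻¹ * k * w) p
      rw [show w * (w⁻¹ * k * w) = k * w by group, e1] at e2
      exact (by decide : ∀ a b c d : ZMod 2, a + b = c + d → a = c + d + b) _ _ _ _ e2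
    rw [Finset.sum_congr rfl fun p _ => h1 p, Finset.sum_add_distrib, Finset.sum_add_distrib,
      sum_orb_smul H (hn k hk) fun p => f H φ w p]
    exact (by decide : ∀ a b : ZMod 2, a + b + a = b) _ _
  · rw [hsplit, osum, osum, add_comm, ← Finset.sum_add_distrib]
    exact Finset.sum_congr rfl fun p _ => (f_mul H φ w w p).symm

/-- Vanishing on an index two overgroup. -/
theorem osum_step_zero {K L : Subgroup G} {q : G ⧸ H} {w : G} (hw : w ∉ K)
    (hn : ∀ k ∈ K, w⁻¹ * k * w ∈ K) (h2 : w * w ∈ K) (hL : ∀ n, n ∈ L ↔ (n ∈ K ∨ w⁻¹ * n ∈ K))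
    (hstab : ∀ l ∈ L, l • q = q → l ∈ K)
    (hk : ∀ k ∈ K, osum H φ K q k + osum H φ K q (w⁻¹ * k * w) = 0)
    (hww : osum H φ K q (w * w) = 0) : ∀ l ∈ L, osum H φ L q l = 0 := by
  obtain ⟨h1, h2'⟩ := osum_step H φ hw hn h2 hL hstab
  intro l hl
  rcases (hL l).1 hl with h | h
  · rw [h1 l h, hk l h]
  · have hm : w⁻¹ * l ∈ L := (hL _).2 (Or.inl h)
    rw [show l = w * (w⁻¹ * l) by group, osum_mul H φ hm, h1 _ h, hk _ h, h2', hww, add_zero]

/-- In a 2-group a proper subgroup is normalised by an element outside it with square inside. -/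
theorem exists_normalising {K T : Subgroup G} (hT : IsPGroup 2 T) (hKT : K < T) :
    ∃ w ∈ T, w ∉ K ∧ (∀ k ∈ K, w⁻¹ * k * w ∈ K) ∧ w * w ∈ K := by
  have := Fact.mk Nat.prime_two
  have hne : K.subgroupOf T < ⊤ := by
    rw [lt_top_iff_ne_top, Ne, subgroupOf_eq_top]
    exact not_le_of_gt hKT
  have hlt := Group.normalizerCondition_of_isNilpotent (h := hT.isNilpotent) _ hne
  obtain ⟨n, hn, hnK⟩ := SetLike.exists_of_lt hlt
  obtain ⟨j, hj⟩ := hT n
  have key : ∀ j : ℕ, ∀ n : T, n ∈ normalizer (K.subgroupOf T : Set T) → n ∉ K.subgroupOf T →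
      n ^ 2 ^ j = 1 → ∃ m : T, m ∈ normalizer (K.subgroupOf T : Set T) ∧ m ∉ K.subgroupOf T ∧
        m * m ∈ K.subgroupOf T := by
    intro j
    induction j with
    | zero =>
      intro n _ hnK hj
      rw [pow_zero, pow_one] at hj
      exact absurd (hj ▸ one_mem _) hnK
    | succ j ih =>
      intro n hn hnK hj
      by_cases h : n * n ∈ K.subgroupOf T
      · exact ⟨n, hn, hnK, h⟩
      · exact ih (n * n) (mul_mem hn hn) h (by rw [← pow_two, ← pow_mul, ← pow_succ', hj])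
  obtain ⟨m, hm, hmK, hm2⟩ := key j n hn hnK hj
  refine ⟨m, m.2, hmK, fun k hk => ?_, hm2⟩
  have := (mem_normalizer_iff''.1 hm ⟨k, hKT.le hk⟩).1 (mem_subgroupOf.2 hk)
  simpa [mem_subgroupOf] using this

/-- Orbit sums of a larger subgroup vanish once those of a subgroup containing the stabiliser do. -/
theorem osum_propagate {T : Subgroup G} (hT : IsPGroup 2 T) {q : G ⧸ H} :
    ∀ K : Subgroup G, K ≤ T → (∀ t ∈ T, t • q = q → t ∈ K) → (∀ k ∈ K, osum H φ K q k = 0) →
      ∀ t ∈ T, osum H φ T q t = 0 := by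
  intro K
  induction K using WellFoundedGT.induction with
  | _ K ih =>
    intro hKT hstab hK
    rcases hKT.lt_or_eq with hlt | rfl
    · obtain ⟨w, hwT, hwK, hn, h2⟩ := exists_normalising hT hlt
      obtain ⟨L, hL⟩ := exists_ext K hn h2
      have hLT : L ≤ T := fun n hn' => by
        rcases (hL n).1 hn' with h | h
        · exact hKT h
        · simpa using mul_mem hwT (hKT h)
      have hKL : K < L := lt_of_le_of_ne (fun n h => (hL n).2 (Or.inl h))
        fun e => hwK (e ▸ (hL w).2 (Or.inr (by rw [inv_mul_cancel]; exact one_mem K)))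
      refine ih L hKL hLT (fun t ht e => hKL.le (hstab t ht e)) ?_
      exact osum_step_zero H φ hwK hn h2 hL (fun l hl e => hstab l (hLT hl) e)
        (fun k hk => by rw [hK k hk, hK _ (hn k hk), add_zero]) (hK _ h2)
    · exact hK

end CfsgLib.RuW
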