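import Mathlib
import Cfsg.Agent.Lib.RuW.Data
import Cfsg.Agent.Lib.RuW.Orbit

/-!
# The normaliser of `Z` controls transfer, so induces all automorphisms of `Z`
-/

set_option autoImplicit false
set_option linter.style.haveILetI false

namespace CfsgLib.RuW

open Subgroup CfsgLib.OrbitTransfer

variable {G : Type*} [Group G] [Finite G] (S : Setup G)

namespace Setup

/-- Away from the base coset a stabiliser in `T` meets `W` in index at least 4. -/
theorem small_inter {x : G} (hx : x ∉ normalizer (S.Z : Set G)) (U : Subgroup G) (hUW : U ≤ S.W)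
    (hU : ∀ u ∈ U, x⁻¹ * u * x ∈ normalizer (S.Z : Set G)) : 4 * Nat.card U ≤ Nat.card S.W := by
  have := Fact.mk Nat.prime_two
  by_contra! hbig
  rw [S.cardW] at hbig
  have hUp : IsPGroup 2 U := S.T.isPGroup'.to_le (hUW.trans S.hWT)
  have hU10 : 2 ^ 10 ≤ Nat.card U := by
    obtain ⟨k, hk⟩ := IsPGroup.iff_card.1 hUp
    rw [hk] at hbig ⊢
    refine Nat.pow_le_pow_right (by norm_num) ?_
    by_contra! h
    have := Nat.pow_le_pow_right (by norm_num : 1 ≤ 2) (Nat.le_of_lt_succ h)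
    omega
  let f : U →* MulAut S.Z :=
    { toFun := fun u => S.act ⟨x⁻¹ * u * x, hU u u.2⟩
      map_one' := by
        rw [← map_one S.act]
        exact congrArg S.act (Subtype.ext (by simp))
      map_mul' := fun u v => by
        rw [← map_mul]
        exact congrArg S.act (Subtype.ext (by simp only [Subgroup.coe_mul]; group)) }
  let Y : Subgroup G := f.ker.map U.subtype
  have hYW : Y ≤ S.W := (map_subtype_le _).trans hUW
  have hYcard : Nat.card Y = Nat.card f.ker := card_map_of_injective U.subtype_injective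
  have hmul := f.ker.card_mul_index
  rw [index_ker] at hmul
  have hr8 : Nat.card f.range ∣ 8 := by
    obtain ⟨k, hk⟩ := IsPGroup.iff_card.1 (hUp.of_surjective f.rangeRestrict f.rangeRestrict_surjective)
    have hd : 2 ^ k ∣ 168 := hk ▸ S.card_aut ▸ Subgroup.card_subgroup_dvd_card f.range
    have hk3 : k ≤ 3 := by
      by_contra! h
      exact absurd (dvd_trans (Nat.pow_dvd_pow 2 h) hd) (by norm_num)
    rw [hk]
    exact (Nat.pow_dvd_pow 2 hk3).trans (by norm_num)
  have hZY : S.Z ≤ Y := by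
    refine S.large Y hYW ?_
    rw [hYcard]
    have := Nat.le_of_dvd (by norm_num) hr8
    by_contra! h
    have := Nat.mul_le_mul (Nat.le_sub_one_of_lt h) this
    omega
  have hsq : ∀ u : U, f u * f u = 1 := by
    intro u
    obtain ⟨v, hv, e⟩ := hZY (S.sq _ (hUW u.2))
    rw [← map_mul]
    have : u * u = v := Subtype.ext e.symm
    rw [this]
    exact hv
  have hr4 : Nat.card f.range ≤ 4 := by
    rcases (Nat.le_of_dvd (by norm_num) hr8).lt_or_eq with h | h
    · obtain ⟨j, hj, e⟩ := (Nat.dvd_prime_pow Nat.prime_two).1 (show Nat.card f.range ∣ 2 ^ 3 from hr8)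
      interval_cases j <;> simp_all
    · obtain ⟨-, ⟨u, rfl⟩, he⟩ := S.not_elementary h
      exact absurd (hsq u) he
  have hY8 : 2 ^ 8 ≤ Nat.card Y := by
    rw [hYcard]
    by_contra! h
    have := Nat.mul_le_mul (Nat.le_sub_one_of_lt h) hr4
    omega
  refine hx (inv_mem_iff.1 (mem_normalizer_of_conj fun z hz => ?_))
  have hmap := mem_map_of_mem (MulAut.conj x⁻¹).toMonoidHom (S.le_closure_sq hYW hY8 hz)
  rw [MonoidHom.map_closure] at hmap
  refine (closure_le _).2 ?_ (show x⁻¹ * z * x⁻¹⁻¹ ∈ _ by simpa using hmap)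
  rintro _ ⟨_, ⟨y, hy, rfl⟩, rfl⟩
  obtain ⟨u, hu, rfl⟩ := hy
  obtain ⟨k, hk⟩ := hUp u
  have hk' : (u : G) ^ 2 ^ k = 1 := by simpa using congrArg Subtype.val hk
  have := S.sq_cen (S.act_eq_one.1 (show S.act ⟨x⁻¹ * u * x, hU u u.2⟩ = 1 from hu)) (k := k) (by
    have : (x⁻¹ * (u : G) * x⁻¹⁻¹) ^ 2 ^ k = 1 := by rw [conj_pow, hk']; group
    simpa using this)
  rw [show x⁻¹ * (u : G) * x * (x⁻¹ * u * x) = x⁻¹ * ((u : G) * u) * x by group] at this
  simpa [mul_assoc] using this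

section Vanish

variable (H : Subgroup G) (φ : ↥H →* Multiplicative (ZMod 2)) {q : G ⧸ H}

omit [Finite G] in
theorem card_inter_ext [Finite G] {K L : Subgroup G} {w : G} (hw : w ∈ S.W)
    (hL : ∀ n, n ∈ L ↔ (n ∈ K ∨ w⁻¹ * n ∈ K)) :
    Nat.card ↥(S.W ⊓ L) ≤ 2 * Nat.card ↥(S.W ⊓ K) := by
  classical
  refine le_trans (Nat.card_le_card_of_injective (β := Bool × ↥(S.W ⊓ K))
    (fun n => if h : (n : G) ∈ K then (true, ⟨n, n.2.1, h⟩)
      else (false, ⟨w⁻¹ * n, S.W.mul_mem (S.W.inv_mem hw) n.2.1, ((hL n).1 n.2.2).resolve_left h⟩)) ?_)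
    (by simp [Nat.card_prod])
  intro v u h
  simp only at h
  split_ifs at h with h1 h2 h2 <;> simp only [Prod.mk.injEq, Bool.false_eq_true, Bool.true_eq_false,
    false_and, true_and, Subtype.mk.injEq] at h
  · exact Subtype.ext (Subtype.ext_iff.1 h :)
  · exact Subtype.ext (mul_left_cancel (Subtype.ext_iff.1 h :))

/-- A step of index two inside `W`. -/
theorem exists_W_step {K : Subgroup G} (hKT : K ≤ (S.T : Subgroup G)) (hK : ¬ S.W ≤ K) :
    ∃ w ∈ S.W, w ∉ K ∧ (∀ k ∈ K, w⁻¹ * k * w ∈ K) ∧ w * w ∈ K := by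
  have hKW : ∀ n ∈ K ⊔ S.W, ∃ k ∈ K, ∃ w ∈ S.W, n = k * w := by
    intro n hn
    rw [← SetLike.mem_coe, coe_mul_of_left_le_normalizer_right K S.W (hKT.trans S.T_le_N)] at hn
    obtain ⟨k, hk, w, hw, e⟩ := hn
    exact ⟨k, hk, w, hw, e.symm⟩
  obtain ⟨n, hn, hnK, hnn, -⟩ := exists_normalising (T := K ⊔ S.W)
    (S.T.isPGroup'.to_le (sup_le hKT S.hWT))
    (lt_of_le_of_ne le_sup_left fun e => hK (e ▸ le_sup_right))
  obtain ⟨k, hk, w, hw, rfl⟩ := hKW n hn
  have hw' : w ∉ K := fun h => hnK (mul_mem hk h)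
  have hwn : ∀ l ∈ K, w⁻¹ * l * w ∈ K := fun l hl => by
    have := hnn (k * l * k⁻¹) (mul_mem (mul_mem hk hl) (inv_mem hk))
    rwa [show (k * w)⁻¹ * (k * l * k⁻¹) * (k * w) = w⁻¹ * l * w by group] at this
  by_cases h : w * w ∈ K
  · exact ⟨w, hw, hw', hwn, h⟩
  · refine ⟨w * w, mul_mem hw hw, h, fun l hl => ?_, ?_⟩
    · rw [show (w * w)⁻¹ * l * (w * w) = w⁻¹ * (w⁻¹ * l * w) * w by group]
      exact hwn _ (hwn l hl)
    · rw [S.invol _ (S.sq w hw)]
      exact one_mem K

/-- After a step inside `W` the orbit sums vanish on `Z`. -/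
theorem step_Z {K L : Subgroup G} {w : G} (hw : w ∈ S.W) (hwK : w ∉ K)
    (hn : ∀ k ∈ K, w⁻¹ * k * w ∈ K) (h2 : w * w ∈ K) (hL : ∀ n, n ∈ L ↔ (n ∈ K ∨ w⁻¹ * n ∈ K))
    (hstab : ∀ l ∈ L, l • q = q → l ∈ K) :
    ∀ v ∈ S.Z, v ∈ L → osum H φ L q v = 0 := by
  intro v hv hvL
  by_cases hvK : v ∈ K
  · rw [(osum_step H φ hwK hn h2 hL hstab).1 v hvK,
      show w⁻¹ * v * w = v by rw [mul_assoc, S.central hw hv, inv_mul_cancel_left]]
    exact (by decide : ∀ a : ZMod 2, a + a = 0) _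
  · have hwv : w⁻¹ * v ∈ K := ((hL v).1 hvL).resolve_left hvK
    have hvn : ∀ k ∈ K, v⁻¹ * k * v ∈ K := fun k hk => by
      have h := mul_mem (mul_mem (inv_mem hwv) (hn k hk)) hwv
      rwa [show (w⁻¹ * v)⁻¹ * (w⁻¹ * k * w) * (w⁻¹ * v) = v⁻¹ * k * v by group] at h
    have hcv : v * w = w * v := S.central hw hv
    have hv2 : v * v ∈ K := by rw [S.invol v hv]; exact one_mem K
    have hL' : ∀ n, n ∈ L ↔ (n ∈ K ∨ v⁻¹ * n ∈ K) := by
      intro n
      rw [hL n]
      refine or_congr_right ?_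
      constructor <;> intro h
      · have := mul_mem (inv_mem hwv) h
        rwa [show (w⁻¹ * v)⁻¹ * (w⁻¹ * n) = v⁻¹ * n by group] at this
      · have := mul_mem hwv h
        rwa [show w⁻¹ * v * (v⁻¹ * n) = w⁻¹ * n by group] at this
    rw [(osum_step H φ hvK hvn hv2 hL' hstab).2, S.invol v hv, osum_one]

/-- After a step inside `W` from vanishing on `Z`, the orbit sums vanish on `W`. -/
theorem step_W {K L : Subgroup G} {w : G} (hw : w ∈ S.W) (hwK : w ∉ K)
    (hn : ∀ k ∈ K, w⁻¹ * k * w ∈ K) (h2 : w * w ∈ K) (hL : ∀ n, n ∈ L ↔ (n ∈ K ∨ w⁻¹ * n ∈ K))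
    (hstab : ∀ l ∈ L, l • q = q → l ∈ K) (hZ : ∀ v ∈ S.Z, v ∈ K → osum H φ K q v = 0) :
    ∀ v ∈ S.W, v ∈ L → osum H φ L q v = 0 := by
  obtain ⟨h1, h3⟩ := osum_step H φ hwK hn h2 hL hstab
  have key : ∀ v ∈ S.W, v ∈ K → osum H φ L q v = 0 := by
    intro v hv hvK
    have hc : v⁻¹ * (w⁻¹ * v * w) ∈ S.Z := by
      have := comm_mem_of_sq S.sq (inv_mem hv) (inv_mem hw)
      rwa [inv_inv, inv_inv, show v⁻¹ * w⁻¹ * v * w = v⁻¹ * (w⁻¹ * v * w) by group] at this
    have hcK : v⁻¹ * (w⁻¹ * v * w) ∈ K := mul_mem (inv_mem hvK) (hn v hvK)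
    rw [h1 v hvK, show w⁻¹ * v * w = v * (v⁻¹ * (w⁻¹ * v * w)) by group, osum_mul H φ hcK,
      hZ _ hc hcK, add_zero]
    exact (by decide : ∀ a : ZMod 2, a + a = 0) _
  intro v hv hvL
  rcases (hL v).1 hvL with hvK | hvK
  · exact key v hv hvK
  · have hm : w⁻¹ * v ∈ L := (hL _).2 (Or.inl hvK)
    rw [show v = w * (w⁻¹ * v) by group, osum_mul H φ hm, key _ (mul_mem (inv_mem hw) hv) hvK, h3,
      hZ _ (S.sq w hw) h2, add_zero]

/-- A step inside `W` from vanishing on `W` kills everything. -/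
theorem step_zero {K L : Subgroup G} {w : G} (hKT : K ≤ (S.T : Subgroup G)) (hw : w ∈ S.W) (hwK : w ∉ K)
    (hn : ∀ k ∈ K, w⁻¹ * k * w ∈ K) (h2 : w * w ∈ K) (hL : ∀ n, n ∈ L ↔ (n ∈ K ∨ w⁻¹ * n ∈ K))
    (hstab : ∀ l ∈ L, l • q = q → l ∈ K) (hW : ∀ v ∈ S.W, v ∈ K → osum H φ K q v = 0) :
    ∀ l ∈ L, osum H φ L q l = 0 := by
  refine osum_step_zero H φ hwK hn h2 hL hstab (fun k hk => ?_) (hW _ (mul_mem hw hw) h2)
  have hcW : k⁻¹ * (w⁻¹ * k * w) ∈ S.W := by
    have h := S.normW k⁻¹ (inv_mem (hKT hk)) w⁻¹ (inv_mem hw)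
    have := mul_mem h hw
    rwa [inv_inv, show k⁻¹ * w⁻¹ * k * w = k⁻¹ * (w⁻¹ * k * w) by group] at this
  have hcK : k⁻¹ * (w⁻¹ * k * w) ∈ K := mul_mem (inv_mem hk) (hn k hk)
  rw [show w⁻¹ * k * w = k * (k⁻¹ * (w⁻¹ * k * w)) by group, osum_mul H φ hcK, hW _ hcW hcK, add_zero]
  exact (by decide : ∀ a : ZMod 2, a + a = 0) _

/-- The orbit sums over an orbit away from the base vanish. -/
theorem osum_eq_zero (hq : ∀ K : Subgroup G, K ≤ S.W → (∀ u ∈ K, u • q = q) → 4 * Nat.card K ≤ Nat.card S.W)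
    {t : G} (ht : t ∈ (S.T : Subgroup G)) : osum H φ (S.T : Subgroup G) q t = 0 := by
  obtain ⟨R, hRdef⟩ : ∃ R : Subgroup G, R = (S.T : Subgroup G) ⊓ MulAction.stabilizer G q := ⟨_, rfl⟩
  have hRT : R ≤ (S.T : Subgroup G) := hRdef ▸ inf_le_left
  have hRfix : ∀ u ∈ R, u • q = q := fun u hu => by rw [hRdef] at hu; exact hu.2
  have hstabR : ∀ u ∈ (S.T : Subgroup G), u • q = q → u ∈ R := fun u hu e => by rw [hRdef]; exact ⟨hu, e⟩
  have h4 : 4 * Nat.card ↥(S.W ⊓ R) ≤ Nat.card S.W := hq _ inf_le_left fun u hu => hRfix u hu.2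
  have hcW : ∀ K : Subgroup G, S.W ≤ K → Nat.card S.W = Nat.card ↥(S.W ⊓ K) := fun K h => by
    rw [inf_eq_left.2 h]
  have hstep : ∀ K : Subgroup G, K ≤ (S.T : Subgroup G) → (∀ u ∈ (S.T : Subgroup G), u • q = q → u ∈ K) →
      ¬ S.W ≤ K → ∃ w ∈ S.W, w ∉ K ∧ (∀ k ∈ K, w⁻¹ * k * w ∈ K) ∧ w * w ∈ K ∧
        ∃ L : Subgroup G, (∀ n, n ∈ L ↔ (n ∈ K ∨ w⁻¹ * n ∈ K)) ∧ L ≤ (S.T : Subgroup G) ∧
          (∀ u ∈ (S.T : Subgroup G), u • q = q → u ∈ L) ∧ (∀ l ∈ L, l • q = q → l ∈ K) ∧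
          Nat.card ↥(S.W ⊓ L) ≤ 2 * Nat.card ↥(S.W ⊓ K) := by
    intro K hKT hKs hKW
    obtain ⟨w, hw, hwK, hn, h2⟩ := S.exists_W_step hKT hKW
    obtain ⟨L, hL⟩ := exists_ext K hn h2
    have hLT : L ≤ (S.T : Subgroup G) := fun n hn' => by
      rcases (hL n).1 hn' with h | h
      · exact hKT h
      · simpa using mul_mem (S.hWT hw) (hKT h)
    exact ⟨w, hw, hwK, hn, h2, L, hL, hLT, fun u hu e => (hL u).2 (Or.inl (hKs u hu e)),
      fun l hl e => hKs l (hLT hl) e, S.card_inter_ext hw hL⟩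
  have hpos : 0 < Nat.card ↥(S.W ⊓ R) := Nat.card_pos
  obtain ⟨w₁, hw₁, hw₁K, hn₁, h21, K₁, hK₁, hK₁T, hK₁s, hst₁, hc₁⟩ :=
    hstep R hRT hstabR (fun h => by have := hcW R h; omega)
  obtain ⟨w₂, hw₂, hw₂K, hn₂, h22, K₂, hK₂, hK₂T, hK₂s, hst₂, hc₂⟩ :=
    hstep K₁ hK₁T hK₁s (fun h => by have := hcW K₁ h; omega)
  by_cases hW2 : S.W ≤ K₂
  · -- `W ∩ R` has index exactly four
    have hZ0 : ∀ v ∈ S.Z, v ∈ R → osum H φ R q v = 0 := by
      intro v hv _
      have hbig : 2 ^ 8 ≤ Nat.card ↥(S.W ⊓ R) := by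
        have := hcW K₂ hW2
        rw [S.cardW] at this
        omega
      refine osum_closure H φ (K := R) ?_ ?_ (S.le_closure_sq inf_le_left hbig hv)
      · rintro _ ⟨y, hy, rfl⟩
        exact mul_mem hy.2 hy.2
      · rintro _ ⟨y, hy, rfl⟩
        exact osum_sq H φ hy.2
    have hW1 := S.step_W H φ hw₁ hw₁K hn₁ h21 hK₁ hst₁ hZ0
    exact osum_propagate H φ S.T.isPGroup' K₂ hK₂T hK₂s
      (S.step_zero H φ hK₁T hw₂ hw₂K hn₂ h22 hK₂ hst₂ hW1) t ht
  · have hZ1 := S.step_Z H φ hw₁ hw₁K hn₁ h21 hK₁ hst₁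
    have hW2' := S.step_W H φ hw₂ hw₂K hn₂ h22 hK₂ hst₂ hZ1
    obtain ⟨w₃, hw₃, hw₃K, hn₃, h23, K₃, hK₃, hK₃T, hK₃s, hst₃, -⟩ := hstep K₂ hK₂T hK₂s hW2
    exact osum_propagate H φ S.T.isPGroup' K₃ hK₃T hK₃s
      (S.step_zero H φ hK₂T hw₃ hw₃K hn₃ h23 hK₃ hst₃ hW2') t ht

end Vanish

/-- A homomorphism of the normaliser of `Z` to the group of order two kills `T`. -/
theorem kills_T (h2 : ∀ K : Subgroup G, K.index ≠ 2)
    (φ : ↥(normalizer (S.Z : Set G)) →* Multiplicative (ZMod 2)) {t : G} (ht : t ∈ (S.T : Subgroup G)) :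
    φ ⟨t, S.T_le_M ht⟩ = 1 := by
  classical
  have := Fact.mk Nat.prime_two
  haveI := Fintype.ofFinite (G ⧸ normalizer (S.Z : Set G))
  have htr : φ.transfer t = 1 := by
    by_contra h
    have hdvd : Nat.card φ.transfer.range ∣ 2 := by
      have := Subgroup.card_subgroup_dvd_card φ.transfer.range
      simpa using this
    rcases (Nat.dvd_prime Nat.prime_two).1 hdvd with e | e
    · have hb := Subgroup.card_eq_one.1 e
      exact h (by rw [← mem_bot, ← hb]; exact ⟨t, rfl⟩)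
    · exact h2 φ.transfer.ker (by rw [index_ker, e])
  have hsum := transfer_eq (normalizer (S.Z : Set G)) φ t
  rw [htr, toAdd_one] at hsum
  haveI := Fintype.ofFinite (Quotient (MulAction.orbitRel (S.T : Subgroup G) (G ⧸ normalizer (S.Z : Set G))))
  rw [← Finset.sum_fiberwise (Finset.univ : Finset (G ⧸ normalizer (S.Z : Set G)))
    (fun p => (Quotient.mk'' p : Quotient (MulAction.orbitRel (S.T : Subgroup G) (G ⧸ normalizer (S.Z : Set G)))))
    (fun p => f (normalizer (S.Z : Set G)) φ t p)] at hsum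
  have horb : ∀ q : G ⧸ normalizer (S.Z : Set G), (Finset.univ.filter fun p =>
      (Quotient.mk'' p : Quotient (MulAction.orbitRel (S.T : Subgroup G) (G ⧸ normalizer (S.Z : Set G)))) = Quotient.mk'' q) =
      orb (normalizer (S.Z : Set G)) (S.T : Subgroup G) q := by
    intro q
    ext p
    rw [Finset.mem_filter, mem_orb, Quotient.eq'']
    constructor
    · rintro ⟨-, k, e⟩
      exact ⟨k, k.2, e⟩
    · rintro ⟨k, hk, e⟩
      exact ⟨Finset.mem_univ _, ⟨k, hk⟩, e⟩
  rw [Finset.sum_eq_single (Quotient.mk'' ((1 : G) : G ⧸ normalizer (S.Z : Set G)))] at hsum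
  · rw [horb] at hsum
    have hfix : ∀ k ∈ (S.T : Subgroup G), k • ((1 : G) : G ⧸ normalizer (S.Z : Set G)) = ((1 : G) : G ⧸ normalizer (S.Z : Set G)) := fun k hk => by
      change (((k * 1 : G)) : G ⧸ normalizer (S.Z : Set G)) = _
      rw [mul_one, QuotientGroup.eq, mul_one]
      exact inv_mem (S.T_le_M hk)
    change (0 : ZMod 2) = osum (normalizer (S.Z : Set G)) φ (S.T : Subgroup G) ((1 : G) : G ⧸ normalizer (S.Z : Set G)) t at hsum
    rw [osum_fixed (normalizer (S.Z : Set G)) φ hfix, f_stab (normalizer (S.Z : Set G)) φ (g := 1) rfl (by simpa using S.T_le_M ht)] at hsum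
    simp only [inv_one, one_mul, mul_one] at hsum
    exact Multiplicative.toAdd.injective (hsum.symm.trans toAdd_one.symm)
  · intro o _ ho
    induction o using Quotient.inductionOn' with
    | h q =>
      rw [horb]
      refine S.osum_eq_zero (normalizer (S.Z : Set G)) φ (fun K hKW hK => ?_) ht
      induction q using QuotientGroup.induction_on with
      | H x =>
        refine S.small_inter (x := x) (fun hx => ho ?_) K hKW (fun u hu => ?_)
        · congr 1
          rw [QuotientGroup.eq, mul_one]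
          exact inv_mem hx
        · have h := hK u hu
          change ((u * x : G) : G ⧸ normalizer (S.Z : Set G)) = x at h
          rw [QuotientGroup.eq] at h
          have := inv_mem h
          rwa [mul_inv_rev, inv_inv, show x⁻¹ * (u * x) = x⁻¹ * u * x by group] at this
  · intro h
    exact absurd (Finset.mem_univ _) h

/-- All automorphisms of `Z` are induced by its normaliser. -/
theorem act_surjective (h2 : ∀ K : Subgroup G, K.index ≠ 2) : Function.Surjective S.act := by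
  rw [← MonoidHom.range_eq_top]
  haveI := S.aut_simple
  set X := S.act.range with hX
  by_contra hne
  have hPX : S.P ≤ X := map_le_range _ _
  have hno : ∀ K : Subgroup X, K.index ≠ 2 := by
    intro K hK
    haveI : K.Normal := normal_of_index_eq_two hK
    let ψ : X →* Multiplicative (ZMod 2) :=
      (mulEquivOfPrimeCardEq (p := 2) (G' := Multiplicative (ZMod 2))
        (by rw [← index_eq_card, hK]) (by simp)).toMonoidHom.comp (QuotientGroup.mk' K)
    have hker : ∀ x, ψ x = 1 → x ∈ K := fun x hx => by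
      simp only [ψ, MonoidHom.coe_comp, MulEquiv.coe_toMonoidHom, Function.comp_apply,
        MulEquiv.map_eq_one_iff] at hx
      exact (QuotientGroup.eq_one_iff x).1 hx
    have hPK : S.P.subgroupOf X ≤ K := by
      intro p hp
      obtain ⟨⟨t, htM⟩, ht, e⟩ := (mem_subgroupOf.1 hp : (p : MulAut S.Z) ∈ S.P)
      refine hker p ?_
      have := S.kills_T h2 (ψ.comp S.act.rangeRestrict) (mem_subgroupOf.1 ht)
      rw [← this]
      exact congrArg ψ (Subtype.ext e.symm)
    have h16 : 8 * 2 ∣ Nat.card X := by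
      rw [← K.card_mul_index, hK]
      refine Nat.mul_dvd_mul_right ?_ 2
      rw [← S.cardP, ← Nat.card_congr (subgroupOfEquivOfLe hPX).toEquiv]
      exact Subgroup.card_dvd_of_le hPK
    have := dvd_trans h16 (Subgroup.card_subgroup_dvd_card X)
    rw [S.card_aut] at this
    norm_num at this
  have hX8 : 8 ∣ Nat.card X := S.cardP ▸ Subgroup.card_dvd_of_le hPX
  have hXd : Nat.card X ∣ 168 := S.card_aut ▸ Subgroup.card_subgroup_dvd_card X
  have h8 : Nat.card X ≠ 8 := by
    intro h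
    obtain ⟨K, hK⟩ := Sylow.exists_subgroup_card_pow_prime (G := X) 2 (n := 2) (by rw [h]; norm_num)
    refine hno K ?_
    have := K.card_mul_index
    rw [hK, h] at this
    omega
  obtain ⟨c, hc⟩ := hX8
  have hc21 : c ∣ 21 := by
    rw [hc, show (168 : ℕ) = 8 * 21 by norm_num] at hXd
    exact Nat.dvd_of_mul_dvd_mul_left (by norm_num) hXd
  have hidx := X.card_mul_index
  rw [S.card_aut, hc] at hidx
  have hcle : c ≤ 21 := Nat.le_of_dvd (by norm_num) hc21
  interval_cases c <;> norm_num at hc21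
  · exact h8 (by rw [hc])
  · -- index seven
    have := Fact.mk Nat.prime_two
    have hP8 : Nat.card (S.P.subgroupOf X) = 8 := by
      rw [Nat.card_congr (subgroupOfEquivOfLe hPX).toEquiv, S.cardP]
    have hi : (S.P.subgroupOf X).index = 3 := by
      have := (S.P.subgroupOf X).card_mul_index
      rw [hP8, hc] at this
      omega
    haveI hn : (S.P.subgroupOf X).Normal := by
      by_contra hn
      have hle : (S.P.subgroupOf X).normalCore.index ∣ 6 := by
        have h := Subgroup.card_subgroup_dvd_card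
          (MulAction.toPermHom X (X ⧸ S.P.subgroupOf X)).range
        rw [Nat.card_perm, ← index_eq_card, hi] at h
        rw [normalCore_eq_ker, index_ker]
        simpa [Nat.factorial] using h
      have hne : (S.P.subgroupOf X).normalCore.index ≠ 3 := fun e => hn (by
        have := Subgroup.eq_of_le_of_card_ge (normalCore_le (S.P.subgroupOf X)) (by
          have h1 := (S.P.subgroupOf X).normalCore.card_mul_index
          rw [e, hc] at h1
          omega)
        rw [← this]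
        infer_instance)
      have h3 : 3 ∣ (S.P.subgroupOf X).normalCore.index :=
        hi ▸ index_dvd_of_le (normalCore_le _)
      have h6 : (S.P.subgroupOf X).normalCore.index = 6 := by
        have := Nat.le_of_dvd (by norm_num) hle
        obtain ⟨m, hm⟩ := h3
        rw [hm] at hne this hle ⊢
        have hm2 : m ≤ 2 := by omega
        interval_cases m <;> norm_num at *
      have hq : Nat.card (X ⧸ (S.P.subgroupOf X).normalCore) = 6 := h6
      haveI : Fact (Nat.Prime 3) := ⟨Nat.prime_three⟩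
      obtain ⟨g, hg⟩ := Sylow.exists_subgroup_card_pow_prime (G := X ⧸ (S.P.subgroupOf X).normalCore) 3
        (n := 1) (by rw [hq]; norm_num)
      refine hno (g.comap (QuotientGroup.mk' _)) ?_
      rw [index_comap_of_surjective _ (QuotientGroup.mk'_surjective _)]
      have := g.card_mul_index
      rw [hg, hq] at this
      omega
    have := S.card_le_of_normalizes (X := X) fun x hx p hp => by
      have := hn.conj_mem ⟨p, hPX hp⟩ hp ⟨x, hx⟩
      simpa [mem_subgroupOf] using this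
    omega
  · -- index three
    have hidx3 : X.index = 3 := by omega
    rcases X.normalCore_normal.eq_bot_or_eq_top with h | h
    · have := Subgroup.card_subgroup_dvd_card (MulAction.toPermHom (MulAut S.Z) (MulAut S.Z ⧸ X)).range
      rw [← index_ker, ← normalCore_eq_ker, h, index_bot, S.card_aut, Nat.card_perm, ← index_eq_card,
        hidx3] at this
      norm_num [Nat.factorial] at this
    · exact hne (top_le_iff.1 (h ▸ normalCore_le X))
  · exact hne (eq_top_of_card_eq _ (by rw [hc, S.card_aut]))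

/-- All automorphisms of `Z` are induced by the normaliser of `W`. -/
theorem exists_mem_N (h2 : ∀ K : Subgroup G, K.index ≠ 2) (σ : MulAut S.Z) :
    ∃ n, ∃ hn : n ∈ normalizer (S.W : Set G), S.act ⟨n, S.N_le_M hn⟩ = σ := by
  have := Fact.mk Nat.prime_two
  obtain ⟨⟨m, hm⟩, rfl⟩ := S.act_surjective h2 σ
  set M := normalizer (S.Z : Set G) with hM
  let C : Subgroup M := (centralizer (S.Z : Set G)).subgroupOf M
  haveI : C.Normal := by
    have : C = S.act.ker := by
      ext x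
      rw [MonoidHom.mem_ker, S.act_eq_one, mem_subgroupOf]
    rw [this]; infer_instance
  have hCM : centralizer (S.Z : Set G) ≤ M := centralizer_le_normalizer _
  have hfac : (Nat.card C).factorization 2 = 11 := by
    rw [Nat.card_congr (subgroupOfEquivOfLe hCM).toEquiv]
    refine le_antisymm ?_ ?_
    · by_contra h
      exact S.not_dvd_cen ((Nat.prime_two.pow_dvd_iff_le_factorization Nat.card_pos.ne').2 (by omega))
    · exact (Nat.prime_two.pow_dvd_iff_le_factorization Nat.card_pos.ne').1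
        (S.cardW ▸ Subgroup.card_dvd_of_le S.W_le_cen)
  have hWC : S.W.subgroupOf M ≤ C := fun x hx => S.W_le_cen hx
  let Q : Sylow 2 C := Sylow.ofCard ((S.W.subgroupOf M).subgroupOf C) (by
    rw [Nat.card_congr (subgroupOfEquivOfLe hWC).toEquiv,
      Nat.card_congr (subgroupOfEquivOfLe (S.W_le_cen.trans hCM)).toEquiv, S.cardW, hfac])
  have hQ : (Q : Subgroup C).map C.subtype = S.W.subgroupOf M := by
    rw [show (Q : Subgroup C) = (S.W.subgroupOf M).subgroupOf C from rfl, map_subgroupOf_eq_of_le hWC]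
  have htop := Sylow.normalizer_sup_eq_top Q
  obtain ⟨a, ha, c, hc, e⟩ := mem_sup_of_normal_right.1 (htop.symm ▸ mem_top (⟨m, hm⟩ : M))
  rw [hQ] at ha
  have haN : (a : G) ∈ normalizer (S.W : Set G) := mem_normalizer_of_conj fun w hw => by
    have := (mem_normalizer_iff.1 ha ⟨w, hCM (S.W_le_cen hw)⟩).1 (mem_subgroupOf.2 hw)
    simpa [mem_subgroupOf] using this
  refine ⟨a, haN, ?_⟩
  rw [← e, map_mul, (S.act_eq_one (x := c)).2 hc, mul_one]

end Setup

end CfsgLib.RuW
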