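import Mathlib
import Cfsg.Agent.Lib.RuW.Transfer
import Cfsg.Agent.Lib.RuW.Averaging

/-!
# The normaliser of `W` in the centraliser of `Z` centralises `W/Z`
-/

set_option autoImplicit false
set_option linter.style.haveILetI false
set_option maxHeartbeats 1000000

namespace CfsgLib.RuW

open Subgroup

variable {G : Type*} [Group G] [Finite G] (S : Setup G)

namespace Setup

theorem Zn_normal : ((S.Z).subgroupOf (normalizer (S.W : Set G))).Normal :=
  ⟨fun z hz n => mem_subgroupOf.2 (by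
    have := (mem_normalizer_iff.1 (S.N_le_M n.2) _).1 (mem_subgroupOf.1 hz)
    simpa using this)⟩

/-- An elementary group of order at most `r^5` has no automorphism of order seven, `r ∈ {3, 5, 17}`. -/
theorem seven_not_dvd {H : Type*} [Group H] [Finite H] {r k : ℕ} (hr : r = 3 ∨ r = 5 ∨ r = 17)
    (hc : Nat.card H = r ^ k) (hcomm : ∀ a b : H, a * b = b * a) (hexp : ∀ a : H, a ^ r = 1)
    (hk : k ≤ 5) : ¬ 7 ∣ Nat.card (MulAut H) := by
  letI : CommGroup H := { (inferInstance : Group H) with mul_comm := hcomm }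
  have hp : r.Prime := by rcases hr with rfl | rfl | rfl <;> norm_num
  haveI := Fact.mk hp
  rw [Class49.card_mulAut_prime hc hexp]
  rcases hr with rfl | rfl | rfl <;> interval_cases k <;> simp [Fin.prod_univ_succ] <;> norm_num

theorem centralizes (h2 : ∀ K : Subgroup G, K.index ≠ 2) {x : G} (hxN : x ∈ normalizer (S.W : Set G))
    (hxC : x ∈ centralizer (S.Z : Set G)) {w : G} (hw : w ∈ S.W) : x * w * x⁻¹ * w⁻¹ ∈ S.Z := by
  classical
  have := Fact.mk Nat.prime_two
  have hWN : S.W ≤ normalizer (S.W : Set G) := le_normalizer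
  let N := ↥(normalizer (S.W : Set G))
  let Wn : Subgroup N := S.W.subgroupOf (normalizer (S.W : Set G))
  let Zn : Subgroup N := S.Z.subgroupOf (normalizer (S.W : Set G))
  haveI : Zn.Normal := S.Zn_normal
  haveI : Wn.Normal := normal_in_normalizer
  let V : Subgroup (N ⧸ Zn) := Wn.map (QuotientGroup.mk' Zn)
  haveI : V.Normal := Subgroup.Normal.map inferInstance _ (QuotientGroup.mk'_surjective _)
  let ψ : N →* MulAut V := MulAut.conjNormal.comp (QuotientGroup.mk' Zn)
  have hψ : ∀ (n : N) (v : N) (hv : v ∈ Wn),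
      ψ n ⟨(v : N ⧸ Zn), mem_map_of_mem _ hv⟩ =
        ⟨((n * v * n⁻¹ : N) : N ⧸ Zn), mem_map_of_mem _ (Subgroup.Normal.conj_mem inferInstance v hv n)⟩ :=
    fun n v hv => Subtype.ext rfl
  have hVsq : ∀ v : V, v * v = 1 := by
    rintro ⟨_, v, hv, rfl⟩
    refine Subtype.ext ?_
    change ((v * v : N) : N ⧸ Zn) = 1
    exact (QuotientGroup.eq_one_iff _).2 (S.sq _ hv)
  have hVp : IsPGroup 2 V := fun v => ⟨1, by rw [pow_one, pow_two, hVsq]⟩
  have hVcard : Nat.card V = 256 := by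
    have hZW : Zn ≤ Wn := fun z hz => S.hZW hz
    let f : Wn →* N ⧸ Zn := (QuotientGroup.mk' Zn).comp Wn.subtype
    have hf : f.range = V := by rw [MonoidHom.range_comp, range_subtype]
    have hk : Nat.card f.ker = 8 := by
      rw [← S.cardZ]
      refine Nat.card_congr
        { toFun := fun z => ⟨(((z : Wn) : N) : G),
            (QuotientGroup.eq_one_iff (N := Zn) ((z : Wn) : N)).1 (MonoidHom.mem_ker.1 z.2 :)⟩
          invFun := fun z => ⟨⟨⟨z, hWN (S.hZW z.2)⟩, S.hZW z.2⟩, MonoidHom.mem_ker.2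
            ((QuotientGroup.eq_one_iff (N := Zn) (⟨z, hWN (S.hZW z.2)⟩ : N)).2 (mem_subgroupOf.2 z.2))⟩
          left_inv := fun z => rfl
          right_inv := fun z => rfl }
    have h := f.ker.card_mul_index
    rw [index_ker, hk, hf, Nat.card_congr (subgroupOfEquivOfLe hWN).toEquiv, S.cardW] at h
    omega
  -- the action on `Z`
  let aN : N →* MulAut S.Z := S.act.comp (Subgroup.inclusion S.N_le_M)
  have haN : Function.Surjective aN := fun σ => by
    obtain ⟨n, hn, e⟩ := S.exists_mem_N h2 σ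
    exact ⟨⟨n, hn⟩, e⟩
  let D0 : Subgroup N := aN.ker
  have hD0 : ∀ n : N, n ∈ D0 ↔ (n : G) ∈ centralizer (S.Z : Set G) := fun n => by
    change aN n = 1 ↔ _
    exact S.act_eq_one
  have hWD : Wn ≤ D0 := fun w hw => (hD0 w).2 (S.W_le_cen hw)
  have hWψ : ∀ w ∈ Wn, ψ w = 1 := by
    intro w hw
    refine MulEquiv.ext ?_
    rintro ⟨_, v, hv, rfl⟩
    refine Subtype.ext ?_
    change ((w * v * w⁻¹ : N) : N ⧸ Zn) = (v : N ⧸ Zn)
    rw [QuotientGroup.eq]
    change ((w : G) * (v : G) * (w : G)⁻¹)⁻¹ * (v : G) ∈ S.Z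
    have := comm_mem_of_sq S.sq (mem_subgroupOf.1 hw) (inv_mem (mem_subgroupOf.1 hv))
    rwa [inv_inv, show (w : G) * (v : G)⁻¹ * (w : G)⁻¹ * v = ((w : G) * v * (w : G)⁻¹)⁻¹ * v by group] at this
  -- fixed points of Sylow 2-subgroups of subgroups covering the automorphisms of `Z`
  have exists_fix : ∀ L : Subgroup N, L.map aN = ⊤ → ∃ Q : Subgroup N, Q ≤ L ∧ IsPGroup 2 Q ∧
      ∃ d : V, d ≠ 1 ∧ (∀ q ∈ Q, ψ q d = d) ∧ ∀ v : V, (∀ q ∈ Q, ψ q v = v) → v = 1 ∨ v = d := by
    intro L hL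
    let f : L →* MulAut S.Z := aN.comp L.subtype
    have hf : Function.Surjective f := fun σ => by
      obtain ⟨l, hl, e⟩ := (hL.symm ▸ mem_top σ : σ ∈ L.map aN)
      exact ⟨⟨l, hl⟩, e⟩
    obtain ⟨P⟩ : Nonempty (Sylow 2 L) := inferInstance
    let Q : Subgroup N := (P : Subgroup L).map L.subtype
    have hQimg : Nat.card (Q.map aN) = 8 := by
      have : Q.map aN = (P.mapSurjective hf : Subgroup (MulAut S.Z)) := Subgroup.map_map _ _ _
      rw [this, Sylow.card_eq_multiplicity, S.card_aut, show 168 = 2 ^ 3 * 21 by norm_num,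
        Nat.factorization_mul (by norm_num) (by norm_num), Finsupp.add_apply,
        Nat.prime_two.factorization_pow, Finsupp.single_eq_same,
        Nat.factorization_eq_zero_of_not_dvd (by norm_num : ¬ 2 ∣ 21)]
      norm_num
    have hQp : IsPGroup 2 Q := P.isPGroup'.map _
    let TN : Sylow 2 N := S.T.subtype S.T_le_N
    have hTN : Nat.card (TN : Subgroup N) = 2 ^ 14 := by
      rw [show (TN : Subgroup N) = (S.T : Subgroup G).subgroupOf _ from rfl,
        Nat.card_congr (subgroupOfEquivOfLe S.T_le_N).toEquiv, S.cardT]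
    have hWp : IsPGroup 2 Wn :=
      (S.T.isPGroup'.to_le S.hWT).of_equiv (subgroupOfEquivOfLe hWN).symm
    have hRp : IsPGroup 2 ↥(Q ⊔ Wn) := IsPGroup.to_sup_of_normal_right hQp hWp
    have hRcard : 2 ^ 14 ≤ Nat.card ↥(Q ⊔ Wn) := by
      let g : ↥(Q ⊔ Wn) →* MulAut S.Z := aN.comp (Subgroup.subtype _)
      have h8 : 8 ≤ Nat.card g.range := by
        rw [← hQimg, MonoidHom.range_comp, range_subtype]
        exact Subgroup.card_le_of_le (map_mono le_sup_left)
      have hkW : 2 ^ 11 ≤ Nat.card g.ker := by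
        rw [← S.cardW]
        exact Nat.card_le_card_of_injective (fun w : S.W =>
          (⟨⟨⟨w, hWN w.2⟩, mem_sup_right (mem_subgroupOf.2 w.2)⟩, hWD (mem_subgroupOf.2 w.2)⟩ : g.ker))
          fun a b h => Subtype.ext (congrArg (fun y : g.ker => (((y : ↥(Q ⊔ Wn)) : N) : G)) h)
      rw [← g.ker.card_mul_index, index_ker]
      exact le_trans (by norm_num) (Nat.mul_le_mul hkW h8)
    obtain ⟨R', hR'⟩ := hRp.exists_le_sylow
    obtain ⟨n, hn⟩ := MulAction.exists_smul_eq N TN R'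
    have hR'card : Nat.card (R' : Subgroup N) = 2 ^ 14 := by
      rw [← hTN, R'.card_eq_multiplicity, TN.card_eq_multiplicity]
    have hRR : Q ⊔ Wn = (R' : Subgroup N) :=
      Subgroup.eq_of_le_of_card_ge hR' (by rw [hR'card]; exact hRcard)
    have hmem : ∀ t ∈ (TN : Subgroup N), n * t * n⁻¹ ∈ Q ⊔ Wn := fun t ht => by
      rw [hRR, ← hn, Sylow.coe_subgroup_smul]
      exact ⟨t, ht, rfl⟩
    have hconj : ∀ r ∈ Q ⊔ Wn, n⁻¹ * r * n ∈ (TN : Subgroup N) := fun r hr => by
      rw [hRR, ← hn, Sylow.coe_subgroup_smul] at hr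
      obtain ⟨t, ht, rfl⟩ := hr
      simp [mul_assoc]
      exact ht
    let dN : N := ⟨S.d, hWN S.hdW⟩
    have hdN : dN ∈ Wn := S.hdW
    let dV : V := ⟨(dN : N ⧸ Zn), mem_map_of_mem _ hdN⟩
    have hTfix : ∀ t ∈ (TN : Subgroup N), ψ t dV = dV := by
      intro t ht
      rw [hψ t dN hdN]
      refine Subtype.ext ?_
      change ((t * dN * t⁻¹ : N) : N ⧸ Zn) = (dN : N ⧸ Zn)
      rw [eq_comm, QuotientGroup.eq]
      have := S.hdfix t ht
      have hc := S.central (S.hdW) this
      change S.d⁻¹ * ((t : G) * S.d * (t : G)⁻¹) ∈ S.Z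
      rwa [show S.d⁻¹ * ((t : G) * S.d * (t : G)⁻¹) = S.d⁻¹ * ((t : G) * S.d * (t : G)⁻¹ * S.d⁻¹ * S.d)
        by group, hc, inv_mul_cancel_left]
    have hTonly : ∀ v : V, (∀ t ∈ (TN : Subgroup N), ψ t v = v) → v = 1 ∨ v = dV := by
      rintro ⟨_, w, hw, rfl⟩ hv
      have hfix : ∀ t ∈ (S.T : Subgroup G), t * (w : G) * t⁻¹ * (w : G)⁻¹ ∈ S.Z := by
        intro t ht
        have h := congrArg Subtype.val (hv ⟨t, S.T_le_N ht⟩ ht)
        change ((⟨t, S.T_le_N ht⟩ * w * ⟨t, S.T_le_N ht⟩⁻¹ : N) : N ⧸ Zn) = (w : N ⧸ Zn) at h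
        rw [eq_comm, QuotientGroup.eq] at h
        have h' : (w : G)⁻¹ * (t * (w : G) * t⁻¹) ∈ S.Z := h
        have hc := S.central (inv_mem (mem_subgroupOf.1 hw)) h'
        rwa [show t * (w : G) * t⁻¹ * (w : G)⁻¹ =
          (w : G) * ((w : G)⁻¹ * (t * w * t⁻¹) * (w : G)⁻¹) by group, hc, mul_inv_cancel_left]
      rcases S.fix _ hw hfix with h | h
      · exact Or.inl (Subtype.ext ((QuotientGroup.eq_one_iff _).2 h))
      · refine Or.inr (Subtype.ext ?_)
        change (w : N ⧸ Zn) = (dN : N ⧸ Zn)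
        rw [eq_comm, QuotientGroup.eq]
        exact h
    refine ⟨Q, map_subtype_le _, hQp, ψ n dV, fun e => S.hdZ ?_, fun q hq => ?_, fun v hv => ?_⟩
    · have e' : dV = 1 := (map_eq_one_iff _ (ψ n).injective).1 e
      exact (QuotientGroup.eq_one_iff dN).1 (congrArg Subtype.val e')
    · have h := hTfix _ (hconj q (mem_sup_left hq))
      rw [map_mul, map_mul, MulAut.mul_apply, MulAut.mul_apply] at h
      have := congrArg (ψ n) h
      simpa using this
    · let E : Subgroup N :=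
        { carrier := {q | ψ q v = v}
          one_mem' := by simp
          mul_mem' := fun {a b} (ha : ψ a v = v) (hb : ψ b v = v) => show ψ (a * b) v = v by
            rw [map_mul, MulAut.mul_apply, hb, ha]
          inv_mem' := fun {a} (ha : ψ a v = v) => show ψ a⁻¹ v = v by
            conv_lhs => rw [← ha]
            simp }
      have hle : Q ⊔ Wn ≤ E := sup_le hv fun w hw => show ψ w v = v by rw [hWψ w hw]; rfl
      rcases hTonly ((ψ n⁻¹) v) (fun t ht => by
        have h : ψ (n * t * n⁻¹) v = v := hle (hmem t ht)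
        rw [map_mul, map_mul, MulAut.mul_apply, MulAut.mul_apply] at h
        have := congrArg (ψ n⁻¹) h
        simpa using this) with h | h
      · left
        exact (map_eq_one_iff _ (ψ n⁻¹).injective).1 h
      · right
        have := congrArg (ψ n) h
        simpa using this
  -- the image of `N ∩ C`
  let n0 : N := ⟨x, hxN⟩
  suffices hker : ψ n0 = 1 by
    have h := congrArg Subtype.val (DFunLike.congr_fun hker ⟨((⟨w, hWN hw⟩ : N) : N ⧸ Zn),
      mem_map_of_mem _ (show (⟨w, hWN hw⟩ : N) ∈ Wn from hw)⟩)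
    change ((n0 * ⟨w, hWN hw⟩ * n0⁻¹ : N) : N ⧸ Zn) = ((⟨w, hWN hw⟩ : N) : N ⧸ Zn) at h
    rw [eq_comm, QuotientGroup.eq] at h
    have h' : w⁻¹ * (x * w * x⁻¹) ∈ S.Z := h
    have hc := S.central (inv_mem hw) h'
    rwa [show x * w * x⁻¹ * w⁻¹ = w * (w⁻¹ * (x * w * x⁻¹) * w⁻¹) by group, hc, mul_inv_cancel_left]
  by_contra hne
  let f0 : D0 →* MulAut V := ψ.comp D0.subtype
  have hrange : f0.range = D0.map ψ := by rw [MonoidHom.range_comp, range_subtype]
  have hne1 : Nat.card f0.range ≠ 1 := fun h => hne (by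
    have hb := Subgroup.card_eq_one.1 h
    have : f0 ⟨n0, (hD0 n0).2 hxC⟩ ∈ f0.range := ⟨_, rfl⟩
    rwa [hb, mem_bot] at this)
  have hodd : ¬ 2 ∣ Nat.card f0.range := by
    intro h
    have hk : 2 ^ 11 ∣ Nat.card f0.ker := by
      rw [← S.cardW, ← Nat.card_congr (subgroupOfEquivOfLe hWN).toEquiv,
        ← Nat.card_congr (subgroupOfEquivOfLe hWD).toEquiv]
      exact Subgroup.card_dvd_of_le fun v hv => hWψ _ hv
    have hd := Nat.mul_dvd_mul hk h
    rw [← index_ker, f0.ker.card_mul_index, ← pow_succ] at hd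
    refine S.not_dvd_cen (dvd_trans hd ?_)
    have : Nat.card D0 = Nat.card (D0.map (Subgroup.subtype _)) :=
      (card_map_of_injective (Subgroup.subtype_injective _)).symm
    rw [this]
    exact Subgroup.card_dvd_of_le fun y hy => by
      obtain ⟨n, hn, rfl⟩ := hy
      exact (hD0 n).1 hn
  obtain ⟨r, hrp, hr⟩ := Nat.exists_prime_and_dvd hne1
  haveI := Fact.mk hrp
  have hr2 : r ≠ 2 := fun e => hodd (e ▸ hr)
  obtain ⟨R0⟩ : Nonempty (Sylow r D0) := inferInstance
  let L : Subgroup N := normalizer ((R0 : Subgroup D0).map D0.subtype : Set N)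
  have hL : L.map aN = ⊤ := by
    rw [eq_top_iff]
    intro σ _
    obtain ⟨m, rfl⟩ := haN σ
    obtain ⟨a, ha, c, hc, rfl⟩ :=
      mem_sup_of_normal_right.1 ((Sylow.normalizer_sup_eq_top R0).symm ▸ mem_top m)
    exact ⟨a, ha, by rw [map_mul, MonoidHom.mem_ker.1 hc, mul_one]⟩
  let Rb : Subgroup (MulAut V) := ((R0 : Subgroup D0).map D0.subtype).map ψ
  have hRbp : IsPGroup r Rb := (R0.isPGroup'.map _).map _
  have hRbne : Rb ≠ ⊥ := by
    intro h
    have h1 : Rb = (R0 : Subgroup D0).map f0 := Subgroup.map_map _ _ _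
    let R1 : Sylow r f0.range := R0.mapSurjective f0.rangeRestrict_surjective
    have h2 : (R1 : Subgroup f0.range) ≠ ⊥ := by
      intro e
      have hc := R1.card_eq_multiplicity
      rw [e, card_bot] at hc
      have := hrp.factorization_pos_of_dvd Nat.card_pos.ne' hr
      have : (1 : ℕ) < r ^ (Nat.card f0.range).factorization r := Nat.one_lt_pow this.ne' hrp.one_lt
      omega
    refine h2 ?_
    rw [eq_bot_iff]
    rintro ⟨y, hy'⟩ hy
    obtain ⟨a, ha, e⟩ := hy
    have : y ∈ Rb := h1 ▸ ⟨a, ha, congrArg Subtype.val e⟩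
    rw [h, mem_bot] at this
    exact mem_bot.2 (Subtype.ext this)
  let H : Subgroup (MulAut V) :=
    { carrier := {h | (h ∈ Rb ∧ ∀ y ∈ Rb, h * y = y * h) ∧ h ^ r = 1}
      one_mem' := ⟨⟨one_mem _, fun y _ => by rw [one_mul, mul_one]⟩, one_pow r⟩
      mul_mem' := fun {a b} ha hb => ⟨⟨mul_mem ha.1.1 hb.1.1, fun y hy => by
          rw [mul_assoc, hb.1.2 y hy, ← mul_assoc, ha.1.2 y hy, mul_assoc]⟩,
        by rw [Commute.mul_pow (ha.1.2 b hb.1.1), ha.2, hb.2, one_mul]⟩
      inv_mem' := fun {a} ha => ⟨⟨inv_mem ha.1.1, fun y hy => by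
          have := ha.1.2 y hy
          calc a⁻¹ * y = a⁻¹ * (y * a) * a⁻¹ := by group
            _ = a⁻¹ * (a * y) * a⁻¹ := by rw [this]
            _ = y * a⁻¹ := by group⟩,
        by rw [inv_pow, ha.2, inv_one]⟩ }
  have hHne : H ≠ ⊥ := by
    haveI : Nontrivial Rb := Rb.nontrivial_iff_ne_bot.2 hRbne
    have hc := hRbp.center_nontrivial
    have hcp : IsPGroup r (center Rb) := hRbp.to_subgroup _
    obtain ⟨k, hk⟩ := IsPGroup.iff_card.1 hcp
    have hd : r ∣ Nat.card (center Rb) := by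
      have h1 := Finite.one_lt_card (α := center Rb)
      rw [hk] at h1 ⊢
      exact dvd_pow_self r (by rintro rfl; simp at h1)
    obtain ⟨c, hc⟩ := exists_prime_orderOf_dvd_card' r hd
    intro h
    have hm : ((c : Rb) : MulAut V) ∈ H := by
      refine ⟨⟨(c : Rb).2, fun y hy => ?_⟩, ?_⟩
      · exact congrArg Subtype.val (mem_center_iff.1 c.2 ⟨y, hy⟩).symm
      · have := pow_orderOf_eq_one c
        rw [hc] at this
        exact congrArg (fun u : center Rb => ((u : Rb) : MulAut V)) this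
    rw [h, mem_bot] at hm
    have : c = 1 := Subtype.ext (Subtype.ext hm)
    rw [this, orderOf_one] at hc
    exact hrp.one_lt.ne hc
  have hHp : IsPGroup r H := fun a => ⟨1, by rw [pow_one]; exact Subtype.ext a.2.2⟩
  obtain ⟨k, hk⟩ := IsPGroup.iff_card.1 hHp
  have hHodd : Odd (Nat.card H) := by
    rw [hk]
    exact (hrp.odd_of_ne_two hr2).pow
  have hLH : ∀ l ∈ L, ψ l ∈ normalizer (H : Set (MulAut V)) := by
    intro l hl
    have hRb : ∀ m ∈ L, ∀ y ∈ Rb, ψ m * y * (ψ m)⁻¹ ∈ Rb := by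
      rintro m hm _ ⟨a, ha, rfl⟩
      rw [← map_inv, ← map_mul, ← map_mul]
      exact mem_map_of_mem _ ((mem_normalizer_iff.1 hm a).1 ha)
    refine mem_normalizer_of_conj fun h hh => ⟨⟨hRb l hl h hh.1.1, fun y hy => ?_⟩, ?_⟩
    · have hy' := hRb l⁻¹ (inv_mem hl) y hy
      rw [map_inv, inv_inv] at hy'
      have hcm := hh.1.2 _ hy'
      calc ψ l * h * (ψ l)⁻¹ * y = ψ l * (h * ((ψ l)⁻¹ * y * ψ l)) * (ψ l)⁻¹ := by group
        _ = ψ l * ((ψ l)⁻¹ * y * ψ l * h) * (ψ l)⁻¹ := by rw [hcm]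
        _ = y * (ψ l * h * (ψ l)⁻¹) := by group
    · rw [conj_pow, hh.2, mul_one, mul_inv_cancel]
  let θ : L →* MulAut H := H.normalizerMonoidHom.comp
    ((ψ.comp L.subtype).codRestrict (normalizer (H : Set (MulAut V))) fun l => hLH l l.2)
  -- no fixed points
  have hfree : ∀ u : V, (∀ h ∈ H, h u = u) → u = 1 := by
    intro u hu
    by_contra hu1
    obtain ⟨Q, hQL, hQp, d, hd, -, honly⟩ := exists_fix L hL
    refine hHne (eq_bot_of_fixed hVsq hHodd (hQp.map ψ) ?_ hd ?_ hu1 hu)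
    · rintro _ ⟨q, hq, rfl⟩ h hh
      exact (mem_normalizer_iff.1 (hLH q (hQL hq)) h).1 hh
    · exact fun v hv => honly v fun q hq => hv _ (mem_map_of_mem _ hq)
  let KL : Subgroup N := θ.ker.map L.subtype
  have hKL : KL.map aN ≠ ⊤ := by
    intro htop
    obtain ⟨Q, hQK, hQp, d, hd, hdfix, honly⟩ := exists_fix KL htop
    have hcomm : ∀ q ∈ Q, ∀ h ∈ H, ψ q * h * (ψ q)⁻¹ = h := by
      intro q hq h hh
      obtain ⟨l, hl, rfl⟩ := hQK hq
      have := DFunLike.congr_fun (MonoidHom.mem_ker.1 hl) ⟨h, hh⟩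
      exact congrArg Subtype.val this
    refine hd (hfree d fun h hh => ?_)
    rcases honly (h d) (fun q hq => by
      have e := DFunLike.congr_fun (hcomm q hq h hh) d
      rw [MulAut.mul_apply, MulAut.mul_apply] at e
      have e2 : (ψ q)⁻¹ d = d := by
        conv_lhs => rw [← hdfix q hq]
        simp
      rwa [e2] at e) with e | e
    · exact absurd ((map_eq_one_iff h h.injective).1 e) hd
    · exact e
  have hKLn : (KL.map aN).Normal := by
    let f : L →* MulAut S.Z := aN.comp L.subtype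
    have hf : Function.Surjective f := fun σ => by
      obtain ⟨l, hl, e⟩ := (hL.symm ▸ mem_top σ : σ ∈ L.map aN)
      exact ⟨⟨l, hl⟩, e⟩
    rw [Subgroup.map_map]
    exact Subgroup.Normal.map inferInstance f hf
  haveI := S.aut_simple
  have hKLb : KL.map aN = ⊥ := hKLn.eq_bot_or_eq_top.resolve_right hKL
  have h7 : 7 ∣ Nat.card (MulAut H) := by
    let f : L →* MulAut S.Z := aN.comp L.subtype
    have hle : θ.ker ≤ f.ker := fun l hl => by
      have : aN l ∈ KL.map aN := mem_map_of_mem _ (mem_map_of_mem _ hl)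
      rwa [hKLb, mem_bot] at this
    have h := index_dvd_of_le hle
    have hfr : f.range = ⊤ := by rw [MonoidHom.range_comp, range_subtype, hL]
    rw [index_ker, index_ker, hfr, card_top, S.card_aut] at h
    exact dvd_trans (dvd_trans (by norm_num) h) (Subgroup.card_subgroup_dvd_card _)
  -- the prime
  have hr255 : r ∣ 255 := by
    letI : MulAction H V :=
      { smul := fun h v => h.1 v
        one_smul := fun _ => rfl
        mul_smul := fun _ _ _ => rfl }
    have h := hHp.card_modEq_card_fixedPoints V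
    have h1 : Nat.card (MulAction.fixedPoints H V) = 1 := by
      haveI : Subsingleton (MulAction.fixedPoints H V) := ⟨fun a b => Subtype.ext (by
        rw [hfree a.1 (fun h hh => a.2 ⟨h, hh⟩), hfree b.1 (fun h hh => b.2 ⟨h, hh⟩)])⟩
      haveI : Nonempty (MulAction.fixedPoints H V) := ⟨⟨1, fun h => map_one h.1⟩⟩
      exact Nat.card_unique
    rw [hVcard, h1] at h
    have := (Nat.modEq_iff_dvd' (by norm_num : 1 ≤ 256)).1 h.symm
    simpa using this
  have hr' : r = 3 ∨ r = 5 ∨ r = 17 := by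
    rw [show (255 : ℕ) = 3 * (5 * 17) by norm_num] at hr255
    rcases hrp.dvd_mul.1 hr255 with h | h
    · exact Or.inl ((Nat.prime_dvd_prime_iff_eq hrp Nat.prime_three).1 h)
    · rcases hrp.dvd_mul.1 h with h | h
      · exact Or.inr (Or.inl ((Nat.prime_dvd_prime_iff_eq hrp (by norm_num)).1 h))
      · exact Or.inr (Or.inr ((Nat.prime_dvd_prime_iff_eq hrp (by norm_num)).1 h))
  have hk5 : k ≤ 5 := by
    by_contra! hk6
    have hd : r ^ 6 ∣ Nat.card (MulAut V) :=
      dvd_trans (Nat.pow_dvd_pow r hk6) (hk ▸ Subgroup.card_subgroup_dvd_card H)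
    letI : CommGroup V := { (inferInstance : Group V) with
      mul_comm := fun a b => by
        have hi : ∀ v : V, v⁻¹ = v := fun v => inv_eq_of_mul_eq_one_left (hVsq v)
        rw [← hi (a * b), mul_inv_rev, hi, hi] }
    rw [Class49.card_mulAut_prime (l := 2) (n := 8) (W := V) hVcard (fun v => by rw [pow_two]; exact hVsq v)]
      at hd
    rcases hr' with rfl | rfl | rfl <;> simp [Fin.prod_univ_succ] at hd <;> norm_num at hd
  exact seven_not_dvd hr' hk (fun a b => Subtype.ext (a.2.1.2 b b.2.1.1))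
    (fun a => Subtype.ext a.2.2) hk5 h7

end Setup

end CfsgLib.RuW
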