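import Mathlib
import Cfsg.Agent.Lib.RuW.Kernel
import Cfsg.Agent.Lib.DGroup.RankOne

/-!
# The centraliser of `Z` and the normalisers of `Z` and `W`
-/

set_option autoImplicit false
set_option linter.style.haveILetI false

namespace CfsgLib.RuW

open Subgroup

variable {G : Type*} [Group G] [Finite G] (S : Setup G)

namespace Setup

/-- The odd complement of `W` in the centraliser of `Z`. -/
theorem exists_complement (h2 : ∀ K : Subgroup G, K.index ≠ 2) :
    ∃ K : Subgroup G, Odd (Nat.card K) ∧ K ≤ centralizer (S.Z : Set G) ∧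
      (∀ m ∈ normalizer (S.Z : Set G), ∀ k ∈ K, m * k * m⁻¹ ∈ K) ∧
      ∀ c ∈ centralizer (S.Z : Set G), ∃ k ∈ K, ∃ w ∈ S.W, c = k * w := by
  classical
  have := Fact.mk Nat.prime_two
  let C := centralizer (S.Z : Set G)
  let Zc : Subgroup C := S.Z.subgroupOf C
  have hZcen : ∀ (z : C), z ∈ Zc → ∀ c : C, c * z = z * c := fun z hz c =>
    Subtype.ext (mem_centralizer_iff.1 c.2 _ hz).symm
  haveI : Zc.Normal := ⟨fun z hz c => by rw [hZcen z hz c, mul_inv_cancel_right]; exact hz⟩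
  let q : C →* C ⧸ Zc := QuotientGroup.mk' Zc
  have hfac : (Nat.card C).factorization 2 = 11 := by
    refine le_antisymm ?_ ?_
    · by_contra h
      exact S.not_dvd_cen ((Nat.prime_two.pow_dvd_iff_le_factorization Nat.card_pos.ne').2
        (show 12 ≤ (Nat.card C).factorization 2 by omega))
    · exact (Nat.prime_two.pow_dvd_iff_le_factorization Nat.card_pos.ne').1
        (S.cardW ▸ Subgroup.card_dvd_of_le S.W_le_cen)
  let Q : Sylow 2 C := Sylow.ofCard (S.W.subgroupOf C)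
    (by rw [Nat.card_congr (subgroupOfEquivOfLe S.W_le_cen).toEquiv, S.cardW, hfac])
  let P : Sylow 2 (C ⧸ Zc) := Q.mapSurjective (QuotientGroup.mk'_surjective Zc)
  have hPmem : ∀ p, p ∈ (P : Subgroup (C ⧸ Zc)) ↔ ∃ w : C, (w : G) ∈ S.W ∧ q w = p := fun p =>
    ⟨fun ⟨w, hw, e⟩ => ⟨w, hw, e⟩, fun ⟨w, hw, e⟩ => ⟨w, hw, e⟩⟩
  have hburn : normalizer ((P : Subgroup (C ⧸ Zc)) : Set (C ⧸ Zc)) ≤
      centralizer ((P : Subgroup (C ⧸ Zc)) : Set (C ⧸ Zc)) := by
    intro y hy
    obtain ⟨c, rfl⟩ := QuotientGroup.mk'_surjective Zc y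
    have hcN : (c : G) ∈ normalizer (S.W : Set G) := mem_normalizer_of_conj fun w hw => by
      obtain ⟨v, hv, e⟩ := (hPmem _).1 ((mem_normalizer_iff.1 hy (q ⟨w, S.W_le_cen hw⟩)).1
        ((hPmem _).2 ⟨_, hw, rfl⟩))
      rw [← map_inv, ← map_mul, ← map_mul, QuotientGroup.mk'_apply, QuotientGroup.mk'_apply,
        QuotientGroup.eq] at e
      have he : (v : G)⁻¹ * ((c : G) * w * (c : G)⁻¹) ∈ S.Z := e
      simpa using mul_mem hv (S.hZW he)
    refine mem_centralizer_iff.2 fun p hp => ?_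
    obtain ⟨w, hw, rfl⟩ := (hPmem p).1 hp
    have h : (c : G) * w * (c : G)⁻¹ * (w : G)⁻¹ ∈ S.Z := S.centralizes h2 hcN c.2 hw
    have h1 : q (c * w * c⁻¹ * w⁻¹) = 1 := (QuotientGroup.eq_one_iff _).2 h
    rw [map_mul, map_mul, map_mul, map_inv, map_inv, mul_inv_eq_one, mul_inv_eq_iff_eq_mul] at h1
    exact h1.symm
  let K0 : Subgroup (C ⧸ Zc) := (MonoidHom.transferSylow P hburn).ker
  have hK0 : IsComplement' K0 (P : Subgroup (C ⧸ Zc)) :=
    MonoidHom.ker_transferSylow_isComplement' P hburn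
  have hK0odd : ¬ 2 ∣ Nat.card K0 := MonoidHom.not_dvd_card_ker_transferSylow P hburn
  let K1 : Subgroup C := K0.comap q
  have hZK1 : Zc ≤ K1 := fun z hz => by
    show q z ∈ K0
    rw [show q z = 1 from (QuotientGroup.eq_one_iff z).2 hz]
    exact one_mem _
  have hZc : Nat.card Zc = 2 ^ 3 := by
    rw [Nat.card_congr (subgroupOfEquivOfLe (S.hZW.trans S.W_le_cen)).toEquiv, S.cardZ]
    norm_num
  have hK1card : Nat.card K1 = 2 ^ 3 * Nat.card K0 := by
    let f : K1 →* C ⧸ Zc := q.comp K1.subtype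
    have hr : f.range = K0 := by
      rw [MonoidHom.range_comp, range_subtype, map_comap_eq_self_of_surjective (QuotientGroup.mk'_surjective Zc)]
    have hk : Nat.card f.ker = 2 ^ 3 := by
      rw [← hZc, ← Nat.card_congr (subgroupOfEquivOfLe hZK1).toEquiv]
      refine congrArg (fun H : Subgroup K1 => Nat.card H) ?_
      ext z
      rw [MonoidHom.mem_ker, mem_subgroupOf]
      exact QuotientGroup.eq_one_iff (z : C)
    rw [← f.ker.card_mul_index, index_ker, hk, hr]
  have hfac1 : (Nat.card K1).factorization 2 = 3 := by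
    rw [hK1card, Nat.factorization_mul (by norm_num) Nat.card_pos.ne', Finsupp.add_apply,
      Nat.prime_two.factorization_pow, Finsupp.single_eq_same,
      Nat.factorization_eq_zero_of_not_dvd hK0odd, add_zero]
  let P1 : Sylow 2 K1 := Sylow.ofCard (Zc.subgroupOf K1)
    (by rw [Nat.card_congr (subgroupOfEquivOfLe hZK1).toEquiv, hZc, hfac1])
  have hburn1 : normalizer ((P1 : Subgroup K1) : Set K1) ≤ centralizer ((P1 : Subgroup K1) : Set K1) :=
    fun y _ => mem_centralizer_iff.2 fun z hz => Subtype.ext (hZcen _ hz _).symm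
  let K2 : Subgroup K1 := (MonoidHom.transferSylow P1 hburn1).ker
  have hK2 : IsComplement' K2 (P1 : Subgroup K1) := MonoidHom.ker_transferSylow_isComplement' P1 hburn1
  have hK2odd : ¬ 2 ∣ Nat.card K2 := MonoidHom.not_dvd_card_ker_transferSylow P1 hburn1
  let K : Subgroup G := (K2.map K1.subtype).map C.subtype
  have hKcard : Nat.card K = Nat.card K2 := by
    rw [card_map_of_injective C.subtype_injective, card_map_of_injective K1.subtype_injective]
  have hKodd : Odd (Nat.card K) := by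
    rwa [hKcard, ← Nat.not_even_iff_odd, even_iff_two_dvd]
  have hKmem : ∀ c : C, Odd (orderOf c) → (c : G) ∈ K := by
    intro c hc
    have h0 : q c ∈ K0 := by
      rw [MonoidHom.mem_ker]
      have hd1 : orderOf (MonoidHom.transferSylow P hburn (q c)) ∣ orderOf c :=
        (orderOf_map_dvd _ _).trans (orderOf_map_dvd _ _)
      obtain ⟨k, hk⟩ := P.isPGroup' (MonoidHom.transferSylow P hburn (q c))
      have hd2 := orderOf_dvd_of_pow_eq_one hk
      exact orderOf_eq_one_iff.1 (Nat.eq_one_of_dvd_coprimes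
        (Nat.Coprime.pow_right k (Nat.coprime_two_right.2 hc)) hd1 hd2)
    have h1 : (⟨c, h0⟩ : K1) ∈ K2 := by
      rw [MonoidHom.mem_ker]
      have hd1 : orderOf (MonoidHom.transferSylow P1 hburn1 ⟨c, h0⟩) ∣ orderOf c := by
        refine (orderOf_map_dvd _ _).trans (dvd_of_eq ?_)
        exact Subgroup.orderOf_mk c h0
      obtain ⟨k, hk⟩ := P1.isPGroup' (MonoidHom.transferSylow P1 hburn1 ⟨c, h0⟩)
      have hd2 := orderOf_dvd_of_pow_eq_one hk
      exact orderOf_eq_one_iff.1 (Nat.eq_one_of_dvd_coprimes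
        (Nat.Coprime.pow_right k (Nat.coprime_two_right.2 hc)) hd1 hd2)
    exact ⟨c, ⟨⟨c, h0⟩, h1, rfl⟩, rfl⟩
  have hKC : K ≤ C := map_subtype_le _
  refine ⟨K, hKodd, hKC, fun m hm k hk => ?_, fun c hc => ?_⟩
  · have hmem : m * k * m⁻¹ ∈ C := by
      rw [mem_centralizer_iff]
      intro z hz
      have hz' : m⁻¹ * z * m ∈ S.Z := by simpa using (mem_normalizer_iff''.1 hm z).1 hz
      have e := mem_centralizer_iff.1 (hKC hk) _ hz'
      calc z * (m * k * m⁻¹) = m * ((m⁻¹ * z * m) * k) * m⁻¹ := by group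
        _ = m * (k * (m⁻¹ * z * m)) * m⁻¹ := by rw [e]
        _ = m * k * m⁻¹ * z := by group
    refine hKmem ⟨_, hmem⟩ ?_
    rw [Subgroup.orderOf_mk]
    have : orderOf (m * k * m⁻¹) = orderOf k :=
      orderOf_injective (MulAut.conj m).toMonoidHom (MulAut.conj m).injective k
    rw [this]
    refine hKodd.of_dvd_nat ?_
    rw [← Subgroup.orderOf_mk (H := K) k hk]
    exact orderOf_dvd_natCard _
  · obtain ⟨⟨⟨k0, hk0⟩, ⟨p, hp⟩⟩, e⟩ := hK0.2 (q ⟨c, hc⟩)
    obtain ⟨w, hw, rfl⟩ := (hPmem p).1 hp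
    have hk1 : (⟨c, hc⟩ : C) * w⁻¹ ∈ K1 := by
      show q _ ∈ K0
      rw [map_mul, map_inv]
      change k0 * q w = q ⟨c, hc⟩ at e
      rw [← e, mul_inv_cancel_right]
      exact hk0
    obtain ⟨⟨⟨k2, hk2⟩, ⟨z, hz⟩⟩, e2⟩ := hK2.2 ⟨_, hk1⟩
    refine ⟨((k2 : C) : G), ⟨_, ⟨_, hk2, rfl⟩, rfl⟩, ((z : C) : G) * w, mul_mem (S.hZW hz) hw, ?_⟩
    have e3 : ((k2 : C) : G) * ((z : C) : G) = c * (w : G)⁻¹ :=
      congrArg (fun u : K1 => ((u : C) : G)) e2
    rw [← mul_assoc, e3, inv_mul_cancel_right]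

/-- The conclusion in the ambient group. -/
theorem main (h2 : ∀ K : Subgroup G, K.index ≠ 2) :
    ((normalizer (S.W : Set G)).subgroupOf (normalizer (S.Z : Set G)) ⊔
        Cfsg.oddCore ↥(normalizer (S.Z : Set G)) = ⊤) ∧
      ∃ (_ : (S.W.subgroupOf (normalizer (S.W : Set G)) ⊔ Cfsg.oddCore ↥(normalizer (S.W : Set G))).Normal),
        Nonempty (↥(normalizer (S.W : Set G)) ⧸
          (S.W.subgroupOf (normalizer (S.W : Set G)) ⊔ Cfsg.oddCore ↥(normalizer (S.W : Set G))) ≃*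
            GL (Fin 3) (ZMod 2)) := by
  obtain ⟨K, hKodd, hKC, hKn, hKW⟩ := S.exists_complement h2
  have hKM : K ≤ normalizer (S.Z : Set G) := hKC.trans (centralizer_le_normalizer _)
  constructor
  · rw [eq_top_iff]
    rintro ⟨m, hm⟩ -
    obtain ⟨n, hn, e⟩ := S.exists_mem_N h2 (S.act ⟨m, hm⟩)
    have hc : S.act (⟨m, hm⟩ * ⟨n, S.N_le_M hn⟩⁻¹) = 1 := by rw [map_mul, map_inv, e, mul_inv_cancel]
    obtain ⟨k, hk, w, hw, hkw⟩ := hKW _ (S.act_eq_one.1 hc)
    have e' : (⟨m, hm⟩ : ↥(normalizer (S.Z : Set G))) =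
        ⟨k, hKM hk⟩ * ⟨w * n, mul_mem (S.T_le_M (S.hWT hw)) (S.N_le_M hn)⟩ := by
      refine Subtype.ext ?_
      change m = k * (w * n)
      rw [← mul_assoc, ← hkw]
      change m = m * n⁻¹ * n
      rw [inv_mul_cancel_right]
    rw [e']
    refine mul_mem (mem_sup_right ?_) (mem_sup_left ?_)
    · refine CfsgLib.DGroup.le_oddCore (N := K.subgroupOf (normalizer (S.Z : Set G))) ⟨fun a ha b => ?_⟩ ?_
        (mem_subgroupOf.2 hk)
      · rw [mem_subgroupOf] at ha ⊢
        exact hKn b b.2 a ha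
      · rwa [Nat.card_congr (subgroupOfEquivOfLe hKM).toEquiv]
    · exact (normalizer (S.W : Set G)).mul_mem (S.T_le_N (S.hWT hw)) hn
  · let aN : ↥(normalizer (S.W : Set G)) →* MulAut S.Z := S.act.comp (Subgroup.inclusion S.N_le_M)
    have haN : Function.Surjective aN := fun σ => by
      obtain ⟨n, hn, e⟩ := S.exists_mem_N h2 σ
      exact ⟨⟨n, hn⟩, e⟩
    haveI hWn : (S.W.subgroupOf (normalizer (S.W : Set G))).Normal := normal_in_normalizer
    have hker : S.W.subgroupOf (normalizer (S.W : Set G)) ⊔ Cfsg.oddCore ↥(normalizer (S.W : Set G)) =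
        aN.ker := by
      refine le_antisymm (sup_le (fun w hw => ?_) (fun o ho => ?_)) (fun n hn => ?_)
      · exact MonoidHom.mem_ker.2 (S.act_eq_one.2 (S.W_le_cen hw))
      · refine MonoidHom.mem_ker.2 (S.act_eq_one.2 ?_)
        rw [mem_centralizer_iff]
        intro z hz
        have hzN : z ∈ normalizer (S.W : Set G) := le_normalizer (S.hZW hz)
        let z' : ↥(normalizer (S.W : Set G)) := ⟨z, hzN⟩
        haveI hOn : (Cfsg.oddCore ↥(normalizer (S.W : Set G))).Normal := inferInstance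
        have h1 : o * z' * o⁻¹ * z'⁻¹ ∈ S.W.subgroupOf (normalizer (S.W : Set G)) :=
          mul_mem (hWn.conj_mem z' (mem_subgroupOf.2 (S.hZW hz)) o) (inv_mem (mem_subgroupOf.2 (S.hZW hz)))
        have h2' : o * z' * o⁻¹ * z'⁻¹ ∈ Cfsg.oddCore ↥(normalizer (S.W : Set G)) := by
          rw [show o * z' * o⁻¹ * z'⁻¹ = o * (z' * o⁻¹ * z'⁻¹) by group]
          exact mul_mem ho (hOn.conj_mem _ (inv_mem ho) z')
        have hWp : IsPGroup 2 ↥(S.W.subgroupOf (normalizer (S.W : Set G))) :=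
          (S.T.isPGroup'.to_le S.hWT).of_equiv (subgroupOfEquivOfLe le_normalizer).symm
        have h3 := CfsgLib.DGroup.eq_one_of_mem_oddCore hWp h1 h2'
        rw [mul_inv_eq_one, mul_inv_eq_iff_eq_mul] at h3
        exact (congrArg Subtype.val h3).symm
      · obtain ⟨k, hk, w, hw, e⟩ := hKW _ (S.act_eq_one.1 (MonoidHom.mem_ker.1 hn))
        have e0 : (n : G) = k * w := e
        have hkN : k ∈ normalizer (S.W : Set G) := by
          have := mul_mem n.2 (inv_mem (le_normalizer hw : w ∈ normalizer (S.W : Set G)))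
          rwa [e0, mul_inv_cancel_right] at this
        rw [show n = (⟨k, hkN⟩ : ↥(normalizer (S.W : Set G))) * ⟨w, le_normalizer hw⟩ from Subtype.ext e0]
        refine mul_mem (mem_sup_right ?_) (mem_sup_left (mem_subgroupOf.2 hw))
        refine CfsgLib.DGroup.le_oddCore (N := K.subgroupOf (normalizer (S.W : Set G))) ⟨fun a ha b => ?_⟩ ?_
          (mem_subgroupOf.2 hk)
        · rw [mem_subgroupOf] at ha ⊢
          exact hKn b (S.N_le_M b.2) a ha
        · refine hKodd.of_dvd_nat ?_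
          exact Subgroup.card_comap_dvd_of_injective K _ (Subgroup.subtype_injective _)
    have hn : (S.W.subgroupOf (normalizer (S.W : Set G)) ⊔ Cfsg.oddCore ↥(normalizer (S.W : Set G))).Normal := by
      rw [hker]; infer_instance
    obtain ⟨φ⟩ := nonempty_mulAut_equiv_gl S.cardZ fun x => Subtype.ext (S.invol x x.2)
    exact ⟨hn, ⟨((QuotientGroup.quotientMulEquivOfEq hker).trans
      (QuotientGroup.quotientKerEquivOfSurjective aN haN)).trans φ⟩⟩

end Setup

/-- The setting from the hypotheses on the Sylow subgroup. -/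
theorem exists_setup (T : Sylow 2 G) (ha : 2 ^ 14 ≤ Nat.card ↥(T : Subgroup G))
    (hb : Nat.card ↥(Subgroup.upperCentralSeries ↥(T : Subgroup G) 4) = 16)
    (W : Subgroup ↥(T : Subgroup G))
    (hW : W = Subgroup.centralizer ((Subgroup.upperCentralSeries ↥(T : Subgroup G) 3 : Subgroup ↥(T : Subgroup G)) : Set ↥(T : Subgroup G)))
    (hc : Nat.card ↥(frattini ↥W) ≤ 8) (hd : ∀ U : Subgroup ↥W, U.index ≤ 16 → frattini ↥W ≤ U) :
    ∃ S : Setup G, S.W = W.map (T : Subgroup G).subtype ∧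
      S.Z = ((commutator ↥W).map W.subtype).map (T : Subgroup G).subtype := by
  obtain ⟨hWn, hP, hWc, h3W, hD, hsq, hel, hlarge, hfix⟩ := shape T.isPGroup' hb ha W hW hc hd
  let ι : ↥(T : Subgroup G) →* G := (T : Subgroup G).subtype
  have hι : Function.Injective ι := Subgroup.subtype_injective _
  have hζ := fun {i : ℕ} (hi : i ≤ 4) => card_zeta T.isPGroup' hb ha (i := i) hi
  have hmem : ∀ (K : Subgroup ↥(T : Subgroup G)) (v : ↥(T : Subgroup G)), (v : G) ∈ K.map ι ↔ v ∈ K := fun K v => mem_map_iff_mem hι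
  have hsucc : ∀ (i : ℕ) (v : ↥(T : Subgroup G)),
      v ∈ Subgroup.upperCentralSeries ↥(T : Subgroup G) (i + 1) ↔
        ∀ t : ↥(T : Subgroup G), t * v * t⁻¹ * v⁻¹ ∈ Subgroup.upperCentralSeries ↥(T : Subgroup G) i := by
    intro i v
    rw [Subgroup.mem_upperCentralSeries_succ_iff]
    refine forall_congr' fun t => ?_
    rw [← inv_mem_iff]
    rw [commutatorElement_def, show (v * t * v⁻¹ * t⁻¹)⁻¹ = t * v * t⁻¹ * v⁻¹ by simp only [mul_inv_rev, inv_inv, mul_assoc]]
  have hlift : ∀ (i : ℕ) (v : ↥(T : Subgroup G)),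
      v ∈ Subgroup.upperCentralSeries ↥(T : Subgroup G) (i + 1) ↔ ∀ t ∈ (T : Subgroup G),
        t * (v : G) * t⁻¹ * (v : G)⁻¹ ∈ (Subgroup.upperCentralSeries ↥(T : Subgroup G) i).map ι := by
    intro i v
    rw [hsucc]
    constructor
    · intro h t ht
      exact ⟨_, h ⟨t, ht⟩, rfl⟩
    · intro h t
      exact (hmem _ _).1 (h t t.2)
  obtain ⟨d, hd4, hd3⟩ := exists_gap T.isPGroup' hb ha (by norm_num : 3 < 4)
  have h4W : ∀ v ∈ Subgroup.upperCentralSeries ↥(T : Subgroup G) 4, v ∈ W := by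
    intro v hv
    rcases normal_cases T.isPGroup' hb ha (K := W) (i := 4) le_rfl with h | ⟨j, hj, h⟩
    · exact h hv
    · have h' := hζ (i := j) (by omega)
      rw [← h, hWc] at h'
      have := Nat.pow_right_injective (le_refl 2) h'
      omega
  refine ⟨{
    T := T
    W := W.map ι
    Z := (Subgroup.upperCentralSeries ↥(T : Subgroup G) 3).map ι
    cardT := hP
    cardW := by rw [card_map_of_injective hι, hWc]
    cardZ := by rw [card_map_of_injective hι, hζ (by norm_num)]; norm_num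
    hWT := map_subtype_le W
    hZW := map_mono h3W
    normW := ?_
    sq := ?_
    invol := ?_
    cen := ?_
    large := ?_
    A := (Subgroup.upperCentralSeries ↥(T : Subgroup G) 1).map ι
    B := (Subgroup.upperCentralSeries ↥(T : Subgroup G) 2).map ι
    hAB := map_mono (Subgroup.upperCentralSeries_mono ↥(T : Subgroup G) (by norm_num))
    hBZ := map_mono (Subgroup.upperCentralSeries_mono ↥(T : Subgroup G) (by norm_num))
    cardA := by rw [card_map_of_injective hι, hζ (by norm_num)]; norm_num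
    cardB := by rw [card_map_of_injective hι, hζ (by norm_num)]; norm_num
    memA := ?_
    memB := ?_
    d := (d : G)
    hdW := mem_map_of_mem ι (h4W d hd4)
    hdZ := fun h => hd3 ((hmem _ _).1 h)
    hdfix := (hlift 3 d).1 hd4
    fix := ?_ }, rfl, by rw [hD]⟩
  · rintro t ht _ ⟨w, hw, rfl⟩
    exact ⟨_, hWn.conj_mem w hw ⟨t, ht⟩, rfl⟩
  · rintro _ ⟨w, hw, rfl⟩
    exact ⟨_, hsq w hw, map_mul ι w w⟩
  · rintro _ ⟨z, hz, rfl⟩
    rw [← map_mul, hel z hz, map_one]
  · intro t ht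
    constructor
    · rintro ⟨w, hw, rfl⟩ _ ⟨z, hz, rfl⟩
      rw [← map_mul, ← map_mul]
      refine congrArg ι ?_
      rw [hW] at hw
      exact mem_centralizer_iff.1 hw z hz
    · intro h
      refine (hmem W ⟨t, ht⟩).2 ?_
      rw [hW, mem_centralizer_iff]
      intro z hz
      exact hι (h _ (mem_map_of_mem ι hz))
  · intro U hUW hU
    have hUT : U ≤ (T : Subgroup G) := hUW.trans (map_subtype_le W)
    have h := hlarge (U.subgroupOf (T : Subgroup G)) (fun u hu => (hmem W u).1 (hUW hu))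
      (by rwa [Nat.card_congr (subgroupOfEquivOfLe hUT).toEquiv])
    rintro _ ⟨z, hz, rfl⟩
    exact h hz
  · rintro _ ⟨v, hv, rfl⟩
    refine (hmem _ v).trans ((hlift 0 v).trans ?_)
    rw [Subgroup.upperCentralSeries_zero, Subgroup.map_bot]
    simp only [mem_bot]
    exact Iff.rfl
  · rintro _ ⟨v, hv, rfl⟩
    exact (hmem _ v).trans (hlift 1 v)
  · rintro _ ⟨v, hv, rfl⟩ h
    have h4 : v ∈ Subgroup.upperCentralSeries ↥(T : Subgroup G) 4 := (hlift 3 v).2 h
    by_cases hv3 : v ∈ Subgroup.upperCentralSeries ↥(T : Subgroup G) 3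
    · exact Or.inl (mem_map_of_mem ι hv3)
    · refine Or.inr ⟨d⁻¹ * v, ?_, by rw [map_mul, map_inv]; rfl⟩
      have hi : ((Subgroup.upperCentralSeries ↥(T : Subgroup G) 3).subgroupOf (Subgroup.upperCentralSeries ↥(T : Subgroup G) 4)).index = 2 := by
        have := ((Subgroup.upperCentralSeries ↥(T : Subgroup G) 3).subgroupOf (Subgroup.upperCentralSeries ↥(T : Subgroup G) 4)).card_mul_index
        rw [Nat.card_congr (subgroupOfEquivOfLe (Subgroup.upperCentralSeries_mono ↥(T : Subgroup G) (by norm_num : 3 ≤ 4))).toEquiv,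
          hζ (i := 3) (by norm_num), hb] at this
        omega
      have h' := (mul_mem_iff_of_index_two hi (a := ⟨d⁻¹, inv_mem hd4⟩) (b := ⟨v, h4⟩)).2
        (iff_of_false (fun h => hd3 (by have h' := Subgroup.inv_mem _ (mem_subgroupOf.1 h); rwa [inv_inv] at h'))
          (fun h => hv3 (mem_subgroupOf.1 h)))
      exact mem_subgroupOf.1 h'

end CfsgLib.RuW
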